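import Cfsg.Agent.Lib.ClassGraph.Top
import Cfsg.Agent.Lib.Char.Burnside
import Cfsg.Agent.Lib.FPF.Complement

/-!
# Simple groups with three class sizes: the case of nested centralisers, first part
-/

set_option autoImplicit false
set_option linter.style.haveILetI false
set_option linter.unusedSectionVars false
set_option linter.unusedVariables false

namespace Cfsg.Agent.Lib.Rank3.Chain

open Subgroup Cfsg
open Cfsg.Agent.Lib.ClassGraph.Basic Cfsg.Agent.Lib.ClassGraph.Top

universe u

variable {G : Type u} [Group G]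

/-- Hypotheses: three class sizes `a`, `b`, `e` with `a ∣ e`, `a < e`, `gcd(a, b) = 1`. -/
structure Hyp (G : Type u) [Group G] (a b e : ℕ) : Prop where
  sz : ∀ g : G, g ≠ 1 → cs g = a ∨ cs g = b ∨ cs g = e
  cop : a.Coprime b
  dvd : a ∣ e
  lt : a < e
  exA : ∃ x : G, x ≠ 1 ∧ cs x = a
  exB : ∃ w : G, w ≠ 1 ∧ cs w = b
  cen : center G = ⊥

variable [Finite G] {a b e : ℕ} (H : Hyp G a b e)

include H

theorem not_mem_center {g : G} (hg : g ≠ 1) : g ∉ center G := by
  rw [H.cen]
  simpa using hg

theorem cs_ne_one {g : G} (hg : g ≠ 1) : cs g ≠ 1 := fun h =>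
  not_mem_center H hg (cs_eq_one_iff.1 h)

theorem cs_pos (g : G) : 0 < cs g := Nat.pos_of_ne_zero Subgroup.index_ne_zero_of_finite

theorem one_lt_cs {g : G} (hg : g ≠ 1) : 1 < cs g := by
  have := cs_pos H g
  have := cs_ne_one H hg
  omega

theorem one_lt_a : 1 < a := by
  obtain ⟨x, hx, rfl⟩ := H.exA
  exact one_lt_cs H hx

theorem one_lt_b : 1 < b := by
  obtain ⟨x, hx, rfl⟩ := H.exB
  exact one_lt_cs H hx

omit H in
theorem cs_dvd_of_le {x z : G} (h : centralizer ({x} : Set G) ≤ centralizer ({z} : Set G)) :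
    cs z ∣ cs x := Subgroup.index_dvd_of_le h

theorem a_ne_b : a ≠ b := by
  intro h
  have h1 := H.cop
  rw [h, Nat.coprime_self] at h1
  have := one_lt_b H
  omega

theorem e_ne_b : e ≠ b := by
  intro h
  have h1 : a ∣ b := h ▸ H.dvd
  have h2 := Nat.Coprime.eq_one_of_dvd H.cop h1
  have := one_lt_a H
  omega

theorem typeA_of_le {x z : G} (hx : cs x = a) (hz : z ≠ 1)
    (hle : centralizer ({x} : Set G) ≤ centralizer ({z} : Set G)) : cs z = a := by
  have hd := cs_dvd_of_le hle
  rw [hx] at hd
  have hapos : 0 < a := by have := one_lt_a H; omega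
  rcases H.sz z hz with h | h | h
  · exact h
  · rw [h] at hd
    have h2 := Nat.Coprime.eq_one_of_dvd H.cop.symm hd
    have := one_lt_b H
    omega
  · rw [h] at hd
    have := Nat.le_of_dvd hapos hd
    have := H.lt
    omega

theorem typeB_of_le {x z : G} (hx : cs x = b) (hz : z ≠ 1)
    (hle : centralizer ({x} : Set G) ≤ centralizer ({z} : Set G)) : cs z = b := by
  have hd := cs_dvd_of_le hle
  rw [hx] at hd
  have hbpos : 0 < b := by have := one_lt_b H; omega
  rcases H.sz z hz with h | h | h
  · rw [h] at hd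
    have h2 := Nat.Coprime.eq_one_of_dvd H.cop hd
    have := one_lt_a H
    omega
  · exact h
  · rw [h] at hd
    have h2 := Nat.Coprime.eq_one_of_dvd H.cop (H.dvd.trans hd)
    have := one_lt_a H
    omega

omit H in
/-- Coprime class sizes and commuting: `x` commutes with all conjugates of `w`. -/
theorem commute_conj {x w : G} (h : (cs x).Coprime (cs w)) (hc : x * w = w * x) {z : G}
    (hz : IsConj w z) : x * z = z * x := by
  obtain ⟨g, rfl⟩ := isConj_iff.1 hz
  obtain ⟨c, hc1, d, hd1, rfl⟩ := exists_mul_of_coprime h g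
  rw [mem_cen] at hc1 hd1
  have e1 : c * d * w * (c * d)⁻¹ = c * (d * w * d⁻¹) * c⁻¹ := by group
  have e2 : d * w * d⁻¹ = w := by rw [hd1]; group
  rw [e1, e2]
  have e3 : x * (c * w * c⁻¹) = (x * c) * w * c⁻¹ := by group
  rw [e3, ← hc1]
  have e4 : c * x * w * c⁻¹ = c * (x * w) * c⁻¹ := by group
  rw [e4, hc]
  have e5 : c * w * c⁻¹ * x = c * w * (c⁻¹ * x) := by group
  have e6 : c⁻¹ * x = x * c⁻¹ := by
    have : x * c⁻¹ = c⁻¹ * (c * x) * c⁻¹ := by group
    rw [this, hc1]
    group
  rw [e5, e6]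
  group

omit H in
theorem not_comm_of_coprime [IsSimpleGroup G] (hZ : center G = ⊥) {x w : G} (hx : x ≠ 1) (hw : w ≠ 1)
    (h : (cs x).Coprime (cs w)) : x * w ≠ w * x := by
  intro hc
  have hN : normalClosure ({w} : Set G) = ⊤ := by
    rcases IsSimpleGroup.eq_bot_or_eq_top_of_normal (normalClosure ({w} : Set G))
      (normalClosure_normal) with h1 | h1
    · exfalso
      have : w ∈ normalClosure ({w} : Set G) := subset_normalClosure (Set.mem_singleton _)
      rw [h1] at this
      exact hw (by simpa using this)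
    · exact h1
  have hle : normalClosure ({w} : Set G) ≤ centralizer ({x} : Set G) := by
    unfold normalClosure
    rw [Subgroup.closure_le]
    intro z hz
    rw [Group.mem_conjugatesOfSet_iff] at hz
    obtain ⟨b, hb, hbz⟩ := hz
    rw [Set.mem_singleton_iff] at hb
    subst hb
    exact mem_cen.2 (commute_conj h hc hbz).symm
  rw [hN] at hle
  have hxc : x ∈ center G := by
    rw [mem_center_iff]
    intro g
    exact mem_cen.1 (hle (mem_top g))
  rw [hZ] at hxc
  exact hx (by simpa using hxc)

/-- The right stabiliser of a class is trivial in a simple group. -/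
theorem St_eq_bot [IsSimpleGroup G] {x : G} (hx : x ≠ 1) : St x = ⊥ := by
  rcases IsSimpleGroup.eq_bot_or_eq_top_of_normal (St x) (St_normal x) with h1 | h1
  · exact h1
  · exfalso
    have h2 := card_St_dvd x
    rw [h1, Subgroup.card_top] at h2
    have h3 := Subgroup.index_mul_card (centralizer ({x} : Set G))
    have h4 : 1 < Nat.card (centralizer ({x} : Set G)) := by
      have : Nontrivial (centralizer ({x} : Set G)) := by
        refine ⟨⟨⟨x, mem_cen.2 rfl⟩, 1, fun h => hx (congrArg Subtype.val h)⟩⟩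
      exact Finite.one_lt_card
    have h5 : 0 < Nat.card G := Nat.card_pos
    have h6 := Nat.le_of_dvd (cs_pos H x) h2
    have h7 : cs x * 2 ≤ Nat.card G := by
      rw [← h3]
      exact Nat.mul_le_mul_left _ h4
    have := cs_pos H x
    omega

theorem central_of_St [IsSimpleGroup G] {x w : G} (hx : x ≠ 1)
    (h : ∀ w', IsConj w w' → w' * w⁻¹ ∈ St x) : w ∈ center G := by
  rw [mem_center_iff]
  intro g
  have h1 := h (g * w * g⁻¹) (isConj_iff.2 ⟨g, rfl⟩)
  rw [St_eq_bot H hx] at h1
  have h2 : g * w * g⁻¹ * w⁻¹ = 1 := by simpa using h1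
  have h3 : g * w * g⁻¹ = w := mul_inv_eq_one.1 h2
  have := mul_inv_eq_iff_eq_mul.1 h3
  exact this

/-- Product of type `a` and type `b` has type `e`. -/
theorem cs_mul [IsSimpleGroup G] {x w : G} (hx : cs x = a) (hx1 : x ≠ 1) (hw : cs w = b)
    (hw1 : w ≠ 1) : cs (x * w) = e := by
  have hcop : (cs x).Coprime (cs w) := by rw [hx, hw]; exact H.cop
  have hnc := not_comm_of_coprime H.cen hx1 hw1 hcop
  have hne : x * w ≠ 1 := by
    intro h
    apply hnc
    have : w = x⁻¹ := eq_inv_of_mul_eq_one_right h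
    rw [this]
    group
  rcases H.sz _ hne with h | h | h
  · exfalso
    have hle : cs (x * w) ≤ cs x := by rw [h, hx]
    have := central_of_St H hx1 (fun w' hw' => mem_St_of_le hcop hle hw')
    exact not_mem_center H hw1 this
  · exfalso
    have hle : cs (x * w) ≤ cs w := by rw [h, hw]
    have := central_of_St H hw1 (fun x' hx' => mem_St_of_le' hcop hle hx')
    exact not_mem_center H hx1 this
  · exact h

omit H in
theorem index_inf_of_coprime {A B : Subgroup G} (h : A.index.Coprime B.index) :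
    (A ⊓ B).index = A.index * B.index := by
  have h2 : A.index * B.index ∣ (A ⊓ B).index :=
    Nat.Coprime.mul_dvd_of_dvd_of_dvd h (Subgroup.index_dvd_of_le inf_le_left)
      (Subgroup.index_dvd_of_le inf_le_right)
  have h3 : 0 < (A ⊓ B).index := Nat.pos_of_ne_zero Subgroup.index_ne_zero_of_finite
  exact le_antisymm Subgroup.index_inf_le (Nat.le_of_dvd h3 h2)

theorem inf_index {x w : G} (hx : cs x = a) (hw : cs w = b) :
    (centralizer ({x} : Set G) ⊓ centralizer ({w} : Set G)).index = a * b := by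
  have h := index_inf_of_coprime (A := centralizer ({x} : Set G)) (B := centralizer ({w} : Set G))
    (by change (cs x).Coprime (cs w); rw [hx, hw]; exact H.cop)
  rw [h]
  change cs x * cs w = a * b
  rw [hx, hw]

theorem e_dvd [IsSimpleGroup G] : e ∣ a * b := by
  obtain ⟨x, hx1, hx⟩ := H.exA
  obtain ⟨w, hw1, hw⟩ := H.exB
  rw [← cs_mul H hx hx1 hw hw1, ← inf_index H hx hw]
  apply Subgroup.index_dvd_of_le
  intro g hg
  have h1 := mem_cen.1 (mem_inf.1 hg).1
  have h2 := mem_cen.1 (mem_inf.1 hg).2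
  rw [mem_cen]
  calc g * (x * w) = (g * x) * w := by group
    _ = x * (g * w) := by rw [h1]; group
    _ = x * w * g := by rw [h2]; group

/-- A quotient `f`. -/
theorem exists_f [IsSimpleGroup G] : ∃ f, e = a * f ∧ f ∣ b ∧ 1 < f := by
  obtain ⟨f, hf⟩ := H.dvd
  refine ⟨f, hf, ?_, ?_⟩
  · have h1 := e_dvd H
    rw [hf] at h1
    have := one_lt_a H
    exact Nat.dvd_of_mul_dvd_mul_left (by omega) h1
  · have := H.lt
    rw [hf] at this
    have h2 : 0 < a := by have := one_lt_a H; omega
    by_contra h3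
    have h4 : f ≤ 1 := by omega
    have := Nat.mul_le_mul_left a h4
    omega

end Cfsg.Agent.Lib.Rank3.Chain
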