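import Cfsg.Agent.Lib.Rank3.Chain1

/-!
# Simple groups with three class sizes: the two big centralisers meet trivially
-/

set_option autoImplicit false
set_option linter.style.haveILetI false
set_option linter.unusedSectionVars false
set_option linter.unusedVariables false

namespace Cfsg.Agent.Lib.Rank3.Chain

open Subgroup Cfsg
open Cfsg.Agent.Lib.ClassGraph.Basic Cfsg.Agent.Lib.ClassGraph.Top

universe u

/-- An element of prime order `r` has a conjugate in any subgroup of index prime to `r`. -/
theorem exists_conj_mem_of_not_dvd_index {K : Type*} [Group K] [Finite K] (A : Subgroup K) {r : ℕ}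
    (hr : r.Prime) {g : K} (hg : orderOf g = r) (h : ¬ r ∣ A.index) : ∃ l : K, l⁻¹ * g * l ∈ A := by
  haveI : Fact r.Prime := ⟨hr⟩
  have hp : IsPGroup r (zpowers g) := by
    rw [IsPGroup.iff_card]
    exact ⟨1, by rw [Nat.card_zpowers, hg, pow_one]⟩
  obtain ⟨q, hq⟩ := hp.nonempty_fixed_point_of_prime_not_dvd_card (K ⧸ A) h
  obtain ⟨l, rfl⟩ := QuotientGroup.mk_surjective q
  refine ⟨l, ?_⟩
  have h1 := hq ⟨g, mem_zpowers g⟩
  have h2 : ((g * l : K) : K ⧸ A) = (l : K ⧸ A) := h1
  have h3 := QuotientGroup.eq.1 h2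
  have h4 := A.inv_mem h3
  have e : ((g * l)⁻¹ * l)⁻¹ = l⁻¹ * g * l := by group
  rwa [e] at h4

/-- Existence of a power of prime order. -/
theorem exists_prime_order_pow {K : Type*} [Group K] [Finite K] {w : K} (hw : w ≠ 1) :
    ∃ (r k : ℕ), r.Prime ∧ orderOf (w ^ k) = r := by
  have h1 : orderOf w ≠ 1 := by rwa [Ne, orderOf_eq_one_iff]
  obtain ⟨r, hr, hd⟩ := Nat.exists_prime_and_dvd h1
  exact ⟨r, orderOf w / r, hr, orderOf_pow_orderOf_div (orderOf_pos w).ne' hd⟩

variable {G : Type u} [Group G] [Finite G] {a b e : ℕ} (H : Hyp G a b e)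

include H

theorem cs_of_mem_inf [IsSimpleGroup G] {x w v : G} (hx : cs x = a) (hx1 : x ≠ 1) (hw : cs w = b)
    (hw1 : w ≠ 1) (hv : v ∈ centralizer ({x} : Set G) ⊓ centralizer ({w} : Set G)) (hv1 : v ≠ 1) :
    cs v = e := by
  have h1 := mem_cen.1 (mem_inf.1 hv).1
  have h2 := mem_cen.1 (mem_inf.1 hv).2
  rcases H.sz v hv1 with h | h | h
  · exfalso
    exact not_comm_of_coprime H.cen hv1 hw1 (by rw [h, hw]; exact H.cop) h2
  · exfalso
    exact not_comm_of_coprime H.cen hx1 hv1 (by rw [h, hx]; exact H.cop) h1.symm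
  · exact h

/-- A type `b` element has no conjugate commuting with a type `a` element. -/
theorem no_conj_comm [IsSimpleGroup G] {x w : G} (hx : cs x = a) (hx1 : x ≠ 1) (hw : cs w = b)
    (hw1 : w ≠ 1) (l : G) : l⁻¹ * w * l ∉ centralizer ({x} : Set G) := by
  intro h
  have h1 := mem_cen.1 h
  have h2 : cs (l⁻¹ * w * l) = b := by
    have := cs_conj w l⁻¹
    rw [inv_inv] at this
    rw [this, hw]
  have h3 : l⁻¹ * w * l ≠ 1 := by
    intro h4
    apply hw1
    have : w = l * (l⁻¹ * w * l) * l⁻¹ := by group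
    rw [this, h4]
    group
  exact not_comm_of_coprime H.cen hx1 h3 (by rw [hx, h2]; exact H.cop) h1.symm

theorem inf_eq_bot [IsSimpleGroup G] {x w : G} (hx : cs x = a) (hx1 : x ≠ 1) (hw : cs w = b)
    (hw1 : w ≠ 1) : centralizer ({x} : Set G) ⊓ centralizer ({w} : Set G) = ⊥ := by
  classical
  by_contra hne
  obtain ⟨v₀, hv₀, hv₀1⟩ := (Subgroup.bot_or_exists_ne_one _).resolve_left hne
  set V := centralizer ({x} : Set G) ⊓ centralizer ({w} : Set G) with hV
  have hVe : ∀ v ∈ V, v ≠ 1 → cs v = e := fun v hv hv1 => cs_of_mem_inf H hx hx1 hw hw1 hv hv1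
  obtain ⟨r, k, hr, hrk⟩ := exists_prime_order_pow hw1
  haveI : Fact r.Prime := ⟨hr⟩
  set w₁ := w ^ k with hw₁
  have hw₁1 : w₁ ≠ 1 := by
    intro h
    rw [h, orderOf_one] at hrk
    exact hr.one_lt.ne hrk
  have hw₁cs : cs w₁ = b := by
    apply typeB_of_le H hw hw₁1
    exact cen_le_of_zpow ⟨k, by simp [hw₁]⟩
  have hra : r ∣ a := by
    by_contra hnd
    obtain ⟨l, hl⟩ := exists_conj_mem_of_not_dvd_index (centralizer ({x} : Set G)) hr hrk
      (by change ¬ r ∣ cs x; rwa [hx])
    exact no_conj_comm H hx hx1 hw₁cs hw₁1 l hl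
  have hrb : ¬ r ∣ b := fun h => hr.one_lt.ne' (Nat.Coprime.eq_one_of_dvd
    (Nat.Coprime.coprime_dvd_right h (Nat.Coprime.coprime_dvd_left hra H.cop)) dvd_rfl)
  obtain ⟨f, hf, hfb, -⟩ := exists_f H
  have hrf : ¬ r ∣ f := fun h => hrb (h.trans hfb)
  have hv₀' := mem_inf.1 hv₀
  set L := centralizer ({v₀} : Set G) with hL
  have hwL : w ∈ L := by
    rw [hL, mem_cen]
    exact (mem_cen.1 hv₀'.2).symm
  have hw₁L : w₁ ∈ L := L.pow_mem hwL k
  have hrL : r ∣ Nat.card L := by
    by_contra hnd
    have h1 : ¬ r ∣ ((centralizer ({x} : Set G)).subgroupOf L).index := fun h =>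
      hnd (h.trans (Subgroup.index_dvd_card _))
    have h2 : orderOf (⟨w₁, hw₁L⟩ : L) = r := by
      rw [← hrk]
      exact Subgroup.orderOf_mk _ _
    obtain ⟨l, hl⟩ := exists_conj_mem_of_not_dvd_index _ hr h2 h1
    rw [Subgroup.mem_subgroupOf] at hl
    exact no_conj_comm H hx hx1 hw₁cs hw₁1 (l : G) (by simpa using hl)
  -- cardinalities
  have hcard1 : e * Nat.card L = Nat.card G := by
    have := Subgroup.index_mul_card L
    rwa [show L.index = e from hVe v₀ hv₀ hv₀1] at this
  have hcard2 : a * b * Nat.card V = Nat.card G := by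
    have := Subgroup.index_mul_card V
    rwa [show V.index = a * b from inf_index H hx hw] at this
  have hapos : 0 < a := by have := one_lt_a H; omega
  have hcard3 : f * Nat.card L = b * Nat.card V := by
    have h3 : a * (f * Nat.card L) = a * (b * Nat.card V) := by
      rw [← mul_assoc, ← hf, hcard1, ← mul_assoc, hcard2]
    exact Nat.eq_of_mul_eq_mul_left hapos h3
  have hrV : r ∣ Nat.card V := by
    have h4 : r ∣ b * Nat.card V := by
      rw [← hcard3]
      exact hrL.mul_left f
    exact (hr.dvd_mul.1 h4).resolve_left hrb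
  have hLne : Nat.card L ≠ 0 := Nat.card_pos.ne'
  have hVne : Nat.card V ≠ 0 := Nat.card_pos.ne'
  have hfne : f ≠ 0 := by
    rintro rfl
    rw [mul_zero] at hf
    have := H.lt
    omega
  have hbne : b ≠ 0 := by have := one_lt_b H; omega
  have hfac : (Nat.card L).factorization r = (Nat.card V).factorization r := by
    have h5 := congrArg (fun n => n.factorization r) hcard3
    rw [Nat.factorization_mul hfne hLne, Nat.factorization_mul hbne hVne] at h5
    simp only [Finsupp.add_apply] at h5
    rw [Nat.factorization_eq_zero_of_not_dvd hrf, Nat.factorization_eq_zero_of_not_dvd hrb] at h5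
    omega
  -- a Sylow subgroup of V
  obtain ⟨R⟩ : Nonempty (Sylow r V) := inferInstance
  set P : Subgroup G := (R : Subgroup V).map V.subtype with hP
  have hPV : P ≤ V := by
    rw [hP]
    exact Subgroup.map_subtype_le _
  have hPcard : Nat.card P = r ^ (Nat.card V).factorization r := by
    rw [hP, Subgroup.card_map_of_injective V.subtype_injective]
    exact R.card_eq_multiplicity
  have hνpos : 0 < (Nat.card V).factorization r :=
    hr.factorization_pos_of_dvd hVne hrV
  have hPp : IsPGroup r P := by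
    rw [IsPGroup.iff_card]
    exact ⟨_, hPcard⟩
  haveI hPnt : Nontrivial P := by
    rw [← Finite.one_lt_card_iff_nontrivial, hPcard]
    exact Nat.one_lt_pow hνpos.ne' hr.one_lt
  obtain ⟨v', hv'1⟩ : ∃ v' : center P, v' ≠ 1 := by
    haveI := hPp.center_nontrivial
    exact exists_ne 1
  set v : G := ((v' : P) : G) with hv
  have hvP : v ∈ P := (v' : P).2
  have hv1 : v ≠ 1 := by
    intro h
    apply hv'1
    apply Subtype.ext
    apply Subtype.ext
    exact h
  have hPv : ∀ g ∈ P, g ∈ centralizer ({v} : Set G) := by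
    intro g hg
    rw [mem_cen]
    have := (mem_center_iff.1 v'.2) ⟨g, hg⟩
    exact (congrArg Subtype.val this)
  obtain ⟨S, hS⟩ := hPp.exists_le_sylow
  haveI hSnt : Nontrivial (S : Subgroup G) := by
    have hle : Nat.card P ≤ Nat.card (S : Subgroup G) :=
      Subgroup.card_le_of_le hS
    rw [← Finite.one_lt_card_iff_nontrivial]
    have h6 : 1 < Nat.card P := Finite.one_lt_card
    omega
  obtain ⟨z', hz'1⟩ : ∃ z' : center (S : Subgroup G), z' ≠ 1 := by
    haveI := S.isPGroup'.center_nontrivial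
    exact exists_ne 1
  set z : G := ((z' : (S : Subgroup G)) : G) with hz
  have hzS : z ∈ (S : Subgroup G) := (z' : (S : Subgroup G)).2
  have hz1 : z ≠ 1 := by
    intro h
    apply hz'1
    apply Subtype.ext
    apply Subtype.ext
    exact h
  have hSz : (S : Subgroup G) ≤ centralizer ({z} : Set G) := by
    intro g hg
    rw [mem_cen]
    have := (mem_center_iff.1 z'.2) ⟨g, hg⟩
    exact (congrArg Subtype.val this)
  -- the intersection `S ⊓ C(v)`
  set D := (S : Subgroup G) ⊓ centralizer ({v} : Set G) with hD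
  have hPD : P ≤ D := le_inf hS hPv
  have hDp : IsPGroup r D := S.isPGroup'.to_le inf_le_left
  obtain ⟨j, hj⟩ := IsPGroup.iff_card.1 hDp
  have hCv : Nat.card (centralizer ({v} : Set G)) = Nat.card L := by
    have h7 := Subgroup.index_mul_card (centralizer ({v} : Set G))
    rw [show (centralizer ({v} : Set G)).index = e from hVe v (hPV hvP) hv1] at h7
    have hepos : 0 < e := by have := H.lt; omega
    exact Nat.eq_of_mul_eq_mul_left hepos (h7.trans hcard1.symm)
  have hdvd : r ^ j ∣ Nat.card L := by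
    rw [← hj, ← hCv]
    exact Subgroup.card_dvd_of_le inf_le_right
  have hjle : j ≤ (Nat.card V).factorization r := by
    rw [← hfac]
    exact (hr.pow_dvd_iff_le_factorization hLne).1 hdvd
  have hDP : P = D := by
    apply Subgroup.eq_of_le_of_card_ge hPD
    rw [hj, hPcard]
    exact Nat.pow_le_pow_right hr.pos hjle
  have hzD : z ∈ D := by
    refine mem_inf.2 ⟨hzS, ?_⟩
    rw [mem_cen]
    have h8 := mem_cen.1 (hSz (hS hvP))
    exact h8.symm
  have hzV : z ∈ V := hPV (hDP ▸ hzD)
  have hcsz := hVe z hzV hz1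
  have h9 : cs z ∣ (S : Subgroup G).index := Subgroup.index_dvd_of_le hSz
  rw [hcsz] at h9
  exact S.not_dvd_index ((hra.trans H.dvd).trans h9)

theorem card_eq [IsSimpleGroup G] : Nat.card G = a * b := by
  obtain ⟨x, hx1, hx⟩ := H.exA
  obtain ⟨w, hw1, hw⟩ := H.exB
  have h1 := inf_index H hx hw
  rw [inf_eq_bot H hx hx1 hw hw1, Subgroup.index_bot] at h1
  exact h1

theorem card_cen_of_a [IsSimpleGroup G] {g : G} (hg : cs g = a) :
    Nat.card (centralizer ({g} : Set G)) = b := by
  have h := Subgroup.index_mul_card (centralizer ({g} : Set G))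
  rw [show (centralizer ({g} : Set G)).index = a from hg, card_eq H] at h
  have hapos : 0 < a := by have := one_lt_a H; omega
  exact Nat.eq_of_mul_eq_mul_left hapos h

theorem card_cen_of_b [IsSimpleGroup G] {g : G} (hg : cs g = b) :
    Nat.card (centralizer ({g} : Set G)) = a := by
  have h := Subgroup.index_mul_card (centralizer ({g} : Set G))
  rw [show (centralizer ({g} : Set G)).index = b from hg, card_eq H, mul_comm a b] at h
  have hbpos : 0 < b := by have := one_lt_b H; omega
  exact Nat.eq_of_mul_eq_mul_left hbpos h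

theorem card_cen_of_e [IsSimpleGroup G] {g : G} {f : ℕ} (hf : e = a * f) (hfb : f ∣ b)
    (hg : cs g = e) : f * Nat.card (centralizer ({g} : Set G)) = b := by
  have h := Subgroup.index_mul_card (centralizer ({g} : Set G))
  rw [show (centralizer ({g} : Set G)).index = e from hg, card_eq H, hf, mul_assoc] at h
  have hapos : 0 < a := by have := one_lt_a H; omega
  exact Nat.eq_of_mul_eq_mul_left hapos h

theorem orderOf_dvd_card_cen (g : G) : orderOf g ∣ Nat.card (centralizer ({g} : Set G)) := by
  have h1 : orderOf (⟨g, mem_cen.2 rfl⟩ : centralizer ({g} : Set G)) = orderOf g :=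
    Subgroup.orderOf_mk _ _
  rw [← h1]
  exact orderOf_dvd_natCard _

/-- An element of order dividing `a` has type `b`. -/
theorem cs_of_order_dvd [IsSimpleGroup G] {g : G} (hg : g ≠ 1) (ho : orderOf g ∣ a) : cs g = b := by
  obtain ⟨f, hf, hfb, -⟩ := exists_f H
  have hne : orderOf g ≠ 1 := by rwa [Ne, orderOf_eq_one_iff]
  rcases H.sz g hg with h | h | h
  · exfalso
    have h1 := orderOf_dvd_card_cen H g
    rw [card_cen_of_a H h] at h1
    exact hne (Nat.Coprime.eq_one_of_dvd (Nat.Coprime.coprime_dvd_left ho H.cop) h1)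
  · exact h
  · exfalso
    have h1 := orderOf_dvd_card_cen H g
    have h2 := card_cen_of_e H hf hfb h
    have h3 : orderOf g ∣ b := h1.trans ⟨f, by rw [← h2]; ring⟩
    exact hne (Nat.Coprime.eq_one_of_dvd (Nat.Coprime.coprime_dvd_left ho H.cop) h3)

/-- Commuting elements of coprime orders dividing `a` have the same centraliser. -/
theorem cen_eq_of_comm [IsSimpleGroup G] {s t : G} (hs : s ≠ 1) (ht : t ≠ 1) (hsa : orderOf s ∣ a)
    (hta : orderOf t ∣ a) (hc : s * t = t * s) (hco : (orderOf s).Coprime (orderOf t)) :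
    centralizer ({s} : Set G) = centralizer ({t} : Set G) := by
  have hcomm : Commute s t := hc
  have hst := cen_mul_eq hcomm hco
  have hord : orderOf (s * t) ∣ a := by
    rw [hcomm.orderOf_mul_eq_mul_orderOf_of_coprime hco]
    exact Nat.Coprime.mul_dvd_of_dvd_of_dvd hco hsa hta
  have hne : s * t ≠ 1 := by
    intro h
    have h1 : s = t⁻¹ := eq_inv_of_mul_eq_one_left h
    have h2 : orderOf s = orderOf t := by rw [h1, orderOf_inv]
    rw [h2, Nat.coprime_self] at hco
    apply ht
    exact orderOf_eq_one_iff.1 hco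
  have h1 : cs (s * t) = b := cs_of_order_dvd H hne hord
  have h2 : cs s = b := cs_of_order_dvd H hs hsa
  have h3 : cs t = b := cs_of_order_dvd H ht hta
  have e1 : centralizer ({s * t} : Set G) = centralizer ({s} : Set G) := by
    apply eq_of_le_of_index_eq
    · rw [hst]; exact inf_le_left
    · change cs (s * t) = cs s
      rw [h1, h2]
  have e2 : centralizer ({s * t} : Set G) = centralizer ({t} : Set G) := by
    apply eq_of_le_of_index_eq
    · rw [hst]; exact inf_le_right
    · change cs (s * t) = cs t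
      rw [h1, h3]
  rw [← e1, e2]

end Cfsg.Agent.Lib.Rank3.Chain
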