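import Cfsg.Agent.Lib.Char.TI
import Cfsg.Agent.Lib.Char.IndRep
import Cfsg.Agent.Lib.Char.Complete
import Cfsg.Agent.Lib.Char.ClassSum
import Cfsg.Agent.Lib.Char.Linear

/-!
# An abelian self-centralising TI subgroup and a class with the product property

`T` is a subgroup such that `C(t) = T` for all `t ∈ T#`; `x` is an element such that all the
products `x · u^g` are conjugate to `x · u`, and such that `x` and `x u` are not conjugate into `T`.
Then the class of `x u` does not depend on `u ∈ T#`.  This is an exceptional character argument.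
-/

set_option autoImplicit false
set_option linter.unusedSectionVars false
set_option linter.style.haveILetI false

namespace Cfsg.Agent.Lib.Rank3.Except

open Cfsg Subgroup
open Cfsg.Agent.Lib.Char.Induced Cfsg.Agent.Lib.Char.Basic Cfsg.Agent.Lib.Char.Ortho
open Cfsg.Agent.Lib.Char.Complete Cfsg.Agent.Lib.Char.Linear Cfsg.Agent.Lib.Char.ClassSum
open scoped ComplexConjugate

universe u

variable {G : Type u} [Group G] [Fintype G]

/-- The hypotheses. -/
structure Hyp (T : Subgroup G) (x : G) : Prop where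
  cen : ∀ t ∈ T, t ≠ 1 → centralizer ({t} : Set G) = T
  prod : ∀ u ∈ T, u ≠ 1 → ∀ g : G, IsConj (x * (g * u * g⁻¹)) (x * u)
  x_out : ∀ g : G, g⁻¹ * x * g ∉ T
  xu_out : ∀ u ∈ T, u ≠ 1 → ∀ g : G, g⁻¹ * (x * u) * g ∉ T

variable {T : Subgroup G} {x : G}

theorem mem_cen_iff {t g : G} : g ∈ centralizer ({t} : Set G) ↔ g * t = t * g :=
  mem_centralizer_singleton_iff

theorem comm_of_hyp (cen : ∀ t ∈ T, t ≠ 1 → centralizer ({t} : Set G) = T)
    {a b : G} (ha : a ∈ T) (hb : b ∈ T) : a * b = b * a := by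
  by_cases h1 : a = 1
  · simp [h1]
  · have : b ∈ centralizer ({a} : Set G) := by rw [cen a ha h1]; exact hb
    exact (mem_cen_iff.1 this).symm

/-- If a conjugate of `t ∈ T#` lies in `T` then the conjugator normalises `T`. -/
theorem conj_mem_of_conj_mem (cen : ∀ t ∈ T, t ≠ 1 → centralizer ({t} : Set G) = T)
    {t g : G} (ht : t ∈ T) (ht1 : t ≠ 1) (hg : g⁻¹ * t * g ∈ T) {r : G} (hr : r ∈ T) :
    g⁻¹ * r * g ∈ T := by
  have hs1 : g⁻¹ * t * g ≠ 1 := by
    intro h
    apply ht1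
    have : t = g * (g⁻¹ * t * g) * g⁻¹ := by group
    rw [this, h]; group
  rw [← cen _ hg hs1, mem_cen_iff]
  have hrt : r * t = t * r := comm_of_hyp cen hr ht
  calc g⁻¹ * r * g * (g⁻¹ * t * g) = g⁻¹ * (r * t) * g := by group
    _ = g⁻¹ * (t * r) * g := by rw [hrt]
    _ = g⁻¹ * t * g * (g⁻¹ * r * g) := by group

/-- Predicate: `g` normalises `T` (one inclusion suffices in a finite group). -/
def Nm (T : Subgroup G) (g : G) : Prop := ∀ r ∈ T, g⁻¹ * r * g ∈ T

/-- Conjugation as an endomorphism of `T`. -/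
def cj (T : Subgroup G) (hT : ∀ a ∈ T, ∀ b ∈ T, a * b = b * a) (g : G) (hg : Nm T g) : T →* T where
  toFun t := ⟨g⁻¹ * t * g, hg _ t.2⟩
  map_one' := by ext; simp
  map_mul' a b := by ext; simp; group

@[simp] theorem coe_cj (hT : ∀ a ∈ T, ∀ b ∈ T, a * b = b * a) (g : G) (hg : Nm T g) (t : T) :
    ((cj T hT g hg t : T) : G) = g⁻¹ * t * g := rfl

theorem cj_bijective (hT : ∀ a ∈ T, ∀ b ∈ T, a * b = b * a) (g : G) (hg : Nm T g) :
    Function.Bijective (cj T hT g hg) := by
  rw [← Finite.injective_iff_bijective]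
  intro a b hab
  have := congrArg Subtype.val hab
  simp only [coe_cj] at this
  apply Subtype.ext
  have h2 : (a : G) = g * (g⁻¹ * a * g) * g⁻¹ := by group
  have h3 : (b : G) = g * (g⁻¹ * b * g) * g⁻¹ := by group
  rw [h2, h3, this]

/-- If `g ∉ T` normalises `T`, then every linear character fixed by `g` is trivial. -/
theorem lam_eq_one_of_fixed (cen : ∀ t ∈ T, t ≠ 1 → centralizer ({t} : Set G) = T)
    (hT : ∀ a ∈ T, ∀ b ∈ T, a * b = b * a) {g : G} (hg : Nm T g) (hgT : g ∉ T)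
    (lam : T →* ℂˣ) (h : lam.comp (cj T hT g hg) = lam) : lam = 1 := by
  -- the map t ↦ g⁻¹ t g t⁻¹ is a bijection of T
  let κ : T → T := fun t => cj T hT g hg t * t⁻¹
  have hκ_inj : Function.Injective κ := by
    intro a b hab
    have h1 : cj T hT g hg a * a⁻¹ = cj T hT g hg b * b⁻¹ := hab
    have h2 : cj T hT g hg (a * b⁻¹) = a * b⁻¹ := by
      rw [map_mul, map_inv]
      apply Subtype.ext
      have h3 := congrArg Subtype.val h1
      simp only [Subgroup.coe_mul, Subgroup.coe_inv, coe_cj] at h3 ⊢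
      have hc : ((a : G)) * (b : G)⁻¹ = (b : G)⁻¹ * (a : G) :=
        hT _ a.2 _ (T.inv_mem b.2)
      have hc2 : (g⁻¹ * (b : G) * g)⁻¹ * (g⁻¹ * (a : G) * g) = g⁻¹ * (a : G) * g * (g⁻¹ * (b : G) * g)⁻¹ := by
        have hm1 : g⁻¹ * (a : G) * g ∈ T := hg _ a.2
        have hm2 : (g⁻¹ * (b : G) * g)⁻¹ ∈ T := T.inv_mem (hg _ b.2)
        exact hT _ hm2 _ hm1
      rw [← hc2, hc]
      have h4 : g⁻¹ * (a : G) * g = g⁻¹ * (b : G) * g * (a : G)⁻¹⁻¹ * (b : G)⁻¹ := by
        rw [inv_inv]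
        have h5 : g⁻¹ * (a : G) * g * (a : G)⁻¹ * (a : G) = g⁻¹ * (b : G) * g * (b : G)⁻¹ * (a : G) := by
          rw [h3]
        have h6 : g⁻¹ * (a : G) * g = g⁻¹ * (b : G) * g * (b : G)⁻¹ * (a : G) := by
          rw [← h5]; group
        rw [h6]
        have hc3 : (b : G)⁻¹ * (a : G) = (a : G) * (b : G)⁻¹ := hc.symm
        rw [mul_assoc (g⁻¹ * (b : G) * g), hc3]
        group
      rw [h4]
      have hcomm : (b : G)⁻¹ * (a : G) = (a : G) * (b : G)⁻¹ := hc.symm
      rw [inv_inv]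
      have e : (g⁻¹ * (b : G) * g)⁻¹ * (g⁻¹ * (b : G) * g * (a : G) * (b : G)⁻¹) = (a : G) * (b : G)⁻¹ := by
        group
      rw [e, hc]
    by_contra hne
    have hne2 : a * b⁻¹ ≠ 1 := by
      intro h3
      exact hne (mul_inv_eq_one.1 h3)
    have h4 : ((a * b⁻¹ : T) : G) ≠ 1 := fun h => hne2 (Subtype.ext h)
    have h5 := congrArg Subtype.val h2
    simp only [coe_cj] at h5
    apply hgT
    rw [← cen _ (a * b⁻¹ : T).2 h4, mem_cen_iff]
    have h6 : g * (g⁻¹ * ((a * b⁻¹ : T) : G) * g) = g * ((a * b⁻¹ : T) : G) := by rw [h5]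
    rw [← h6]
    group
  have hκ_surj : Function.Surjective κ := (Finite.injective_iff_surjective.1 hκ_inj)
  ext t
  obtain ⟨s, rfl⟩ := hκ_surj t
  have h7 : lam (cj T hT g hg s) = lam s := by
    have := congrArg (fun L : T →* ℂˣ => L s) h
    simpa using this
  simp [κ, h7]


section Norm

variable [Fintype T]

/-- Difference of two linear characters. -/
noncomputable def fd (lam mu : T →* ℂˣ) : T → ℂ := fun t => (lam t : ℂ) - (mu t : ℂ)

theorem fd_one (lam mu : T →* ℂˣ) : fd lam mu 1 = 0 := by simp [fd]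

theorem hom_inner_eq_zero {a b : T →* ℂˣ} (h : a ≠ b) :
    classInner (fun t : T => (a t : ℂ)) (fun t : T => (b t : ℂ)) = 0 := by
  apply classInner_eq_zero_of_isIrr_of_ne (isIrrCharacter_of_hom a) (isIrrCharacter_of_hom b)
  intro e
  apply h
  ext t
  exact congrFun e t

theorem hom_inner_self (a : T →* ℂˣ) :
    classInner (fun t : T => (a t : ℂ)) (fun t : T => (a t : ℂ)) = 1 :=
  classInner_self_of_isIrr (isIrrCharacter_of_hom a)

theorem fd_eq_sub (lam mu : T →* ℂˣ) :
    fd lam mu = (fun t : T => (lam t : ℂ)) - (fun t : T => (mu t : ℂ)) := rfl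

/-- The inner products of `fd` with a conjugate of `fd`. -/
theorem inner_fd_cj (lam mu lam' mu' : T →* ℂˣ) :
    classInner (fd lam mu) (fd lam' mu') =
      classInner (fun t : T => (lam t : ℂ)) (fun t : T => (lam' t : ℂ))
      - classInner (fun t : T => (lam t : ℂ)) (fun t : T => (mu' t : ℂ))
      - classInner (fun t : T => (mu t : ℂ)) (fun t : T => (lam' t : ℂ))
      + classInner (fun t : T => (mu t : ℂ)) (fun t : T => (mu' t : ℂ)) := by
  rw [fd_eq_sub, fd_eq_sub, classInner_sub_left, classInner_sub_right, classInner_sub_right]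
  ring

/-- The function `t ↦ f(g⁻¹ t g)` extended by zero. -/
noncomputable def Eg (T : Subgroup G) (f : T → ℂ) (g : G) : T → ℂ :=
  fun t => extendByZero T f (g⁻¹ * t * g)

theorem indFun_restrict (f : T → ℂ) :
    (fun t : T => indFun T f t) = ((Nat.card T : ℂ)⁻¹) • ∑ g : G, Eg T f g := by
  funext t
  simp only [indFun_apply, Pi.smul_apply, Finset.sum_apply, smul_eq_mul, Eg]

theorem norm_indFun (f : T → ℂ) :
    classInner (indFun T f) (indFun T f) =
      (Nat.card T : ℂ)⁻¹ * ∑ g : G, classInner f (Eg T f g) := by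
  rw [classInner_indFun_left T f _ (isClassFunction_indFun T f), indFun_restrict,
    classInner_smul_right, classInner_sum_right]
  simp

theorem inner_Eg_of_not_nm (cen : ∀ t ∈ T, t ≠ 1 → centralizer ({t} : Set G) = T)
    {f : T → ℂ} (hf : f 1 = 0) {g : G} (hg : ¬ Nm T g) : classInner f (Eg T f g) = 0 := by
  rw [classInner_subgroup_eq]
  rw [Finset.sum_eq_zero, mul_zero]
  intro t _
  by_cases ht : t = 1
  · rw [ht, hf, zero_mul]
  · have h1 : ((t : T) : G) ≠ 1 := fun h => ht (Subtype.ext h)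
    have h2 : g⁻¹ * (t : G) * g ∉ T := fun hm => hg fun r hr =>
      conj_mem_of_conj_mem cen t.2 h1 hm hr
    simp [Eg, extendByZero_of_not_mem T f h2]

theorem Eg_of_mem (hT : ∀ a ∈ T, ∀ b ∈ T, a * b = b * a) (f : T → ℂ) {g : G} (hg : g ∈ T) :
    Eg T f g = f := by
  funext t
  have h1 : g⁻¹ * (t : G) * g = t := by
    have := hT _ t.2 _ hg
    rw [mul_assoc, this]
    group
  simp only [Eg, h1]
  exact extendByZero_coe T f t

theorem Eg_fd_of_nm (hT : ∀ a ∈ T, ∀ b ∈ T, a * b = b * a) (lam mu : T →* ℂˣ) {g : G}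
    (hg : Nm T g) :
    Eg T (fd lam mu) g = fd (lam.comp (cj T hT g hg)) (mu.comp (cj T hT g hg)) := by
  funext t
  have h1 := extendByZero_coe T (fd lam mu) (cj T hT g hg t)
  simp only [coe_cj] at h1
  simp only [Eg, h1]
  rfl

theorem nm_inv (hT : ∀ a ∈ T, ∀ b ∈ T, a * b = b * a) {g : G} (hg : Nm T g) : Nm T g⁻¹ := by
  intro r hr
  obtain ⟨s, hs⟩ := (cj_bijective hT g hg).2 ⟨r, hr⟩
  have h1 := congrArg Subtype.val hs
  simp only [coe_cj] at h1
  rw [← h1]
  have : g⁻¹⁻¹ * (g⁻¹ * (s : G) * g) * g⁻¹ = s := by group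
  rw [this]
  exact s.2

theorem cj_cj_inv (hT : ∀ a ∈ T, ∀ b ∈ T, a * b = b * a) {g : G} (hg : Nm T g) (lam : T →* ℂˣ) :
    (lam.comp (cj T hT g hg)).comp (cj T hT g⁻¹ (nm_inv hT hg)) = lam := by
  ext t
  have : (cj T hT g hg) ((cj T hT g⁻¹ (nm_inv hT hg)) t) = t := by
    apply Subtype.ext
    simp only [coe_cj]
    group
  simp [this]

/-- The norm computation. -/
theorem norm_theta (cen : ∀ t ∈ T, t ≠ 1 → centralizer ({t} : Set G) = T)
    (hT : ∀ a ∈ T, ∀ b ∈ T, a * b = b * a) {lam mu : T →* ℂˣ} (hl : lam ≠ 1) (hm : mu ≠ 1)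
    (hne : ∀ (g : G) (hg : Nm T g), lam.comp (cj T hT g hg) ≠ mu) :
    classInner (indFun T (fd lam mu)) (indFun T (fd lam mu)) = 2 := by
  classical
  have hne0 : lam ≠ mu := by
    intro h
    have hone : Nm T (1 : G) := fun r hr => by simpa using hr
    apply hne 1 hone
    rw [← h]
    ext t
    have : cj T hT 1 hone t = t := by
      apply Subtype.ext
      simp
    simp [this]
  have key : ∀ g : G, classInner (fd lam mu) (Eg T (fd lam mu) g) = if g ∈ T then 2 else 0 := by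
    intro g
    split_ifs with hg
    · rw [Eg_of_mem hT _ hg, inner_fd_cj, hom_inner_self, hom_inner_self, hom_inner_eq_zero hne0,
        hom_inner_eq_zero hne0.symm]
      norm_num
    · by_cases hn : Nm T g
      · rw [Eg_fd_of_nm hT lam mu hn, inner_fd_cj]
        have e1 : lam ≠ lam.comp (cj T hT g hn) := fun e => hl (lam_eq_one_of_fixed cen hT hn hg lam e.symm)
        have e2 : mu ≠ mu.comp (cj T hT g hn) := fun e => hm (lam_eq_one_of_fixed cen hT hn hg mu e.symm)
        have e3 : lam ≠ mu.comp (cj T hT g hn) := by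
          intro e
          apply hne g⁻¹ (nm_inv hT hn)
          rw [e, cj_cj_inv]
        have e4 : mu ≠ lam.comp (cj T hT g hn) := fun e => hne g hn e.symm
        rw [hom_inner_eq_zero e1, hom_inner_eq_zero e2, hom_inner_eq_zero e3, hom_inner_eq_zero e4]
        ring
      · exact inner_Eg_of_not_nm cen (fd_one lam mu) hn
  rw [norm_indFun]
  simp only [key]
  rw [Finset.sum_ite, Finset.sum_const_zero, add_zero, Finset.sum_const]
  have hc : (Finset.univ.filter (fun g : G => g ∈ T)).card = Nat.card T := by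
    rw [Nat.card_eq_fintype_card, Fintype.card_subtype]
  rw [hc, nsmul_eq_mul, ← mul_assoc, inv_mul_cancel₀ (card_subgroup_ne_zero T), one_mul]

end Norm

/-- Extraction from norm two. -/
theorem decomp [Fintype (IrrCharacter G)] (c : IrrCharacter G → ℤ) (h2 : ∑ j, c j ^ 2 = 2)
    (h0 : ∑ j, (c j : ℂ) * (j : G → ℂ) 1 = 0) (i₀ : IrrCharacter G) (hi : c i₀ ≠ 0) :
    ∃ i₁ : IrrCharacter G, i₁ ≠ i₀ ∧ c i₁ = - c i₀ ∧ (i₁ : G → ℂ) 1 = (i₀ : G → ℂ) 1 ∧
      ∀ g : G, ∑ j, (c j : ℂ) * (j : G → ℂ) g = (c i₀ : ℂ) * ((i₀ : G → ℂ) g - (i₁ : G → ℂ) g) := by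
  classical
  by_cases hex : ∃ i₁, i₁ ≠ i₀ ∧ c i₁ ≠ 0
  · obtain ⟨i₁, hne, hc1⟩ := hex
    have e1 : ∑ j, c j ^ 2 = c i₀ ^ 2 + (c i₁ ^ 2 + ∑ j ∈ (Finset.univ.erase i₀).erase i₁, c j ^ 2) := by
      rw [Finset.add_sum_erase (Finset.univ.erase i₀) (fun j => c j ^ 2)
          (Finset.mem_erase.2 ⟨hne, Finset.mem_univ _⟩),
        Finset.add_sum_erase Finset.univ (fun j => c j ^ 2) (Finset.mem_univ _)]
    have hnn : 0 ≤ ∑ j ∈ (Finset.univ.erase i₀).erase i₁, c j ^ 2 :=
      Finset.sum_nonneg fun j _ => sq_nonneg _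
    have h01 : 1 ≤ c i₀ ^ 2 := by
      have := sq_pos_of_ne_zero hi
      omega
    have h11 : 1 ≤ c i₁ ^ 2 := by
      have := sq_pos_of_ne_zero hc1
      omega
    have hsum0 : ∑ j ∈ (Finset.univ.erase i₀).erase i₁, c j ^ 2 = 0 := by omega
    have hc00 : c i₀ ^ 2 = 1 := by omega
    have hc11 : c i₁ ^ 2 = 1 := by omega
    have hrest : ∀ j ∈ (Finset.univ.erase i₀).erase i₁, c j = 0 := by
      intro j hj
      have := (Finset.sum_eq_zero_iff_of_nonneg (fun j _ => sq_nonneg (c j))).1 hsum0 j hj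
      exact pow_eq_zero_iff (two_ne_zero) |>.1 this
    have hform : ∀ g : G, ∑ j, (c j : ℂ) * (j : G → ℂ) g =
        (c i₀ : ℂ) * (i₀ : G → ℂ) g + (c i₁ : ℂ) * (i₁ : G → ℂ) g := by
      intro g
      rw [← Finset.add_sum_erase Finset.univ _ (Finset.mem_univ i₀),
        ← Finset.add_sum_erase (Finset.univ.erase i₀) _
          (Finset.mem_erase.2 ⟨hne, Finset.mem_univ _⟩),
        Finset.sum_eq_zero (s := (Finset.univ.erase i₀).erase i₁)]
      · ring
      · intro j hj
        rw [hrest j hj]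
        simp
    obtain ⟨d0, hd0, hd0'⟩ := exists_pos_deg_of_isIrr i₀.2
    obtain ⟨d1, hd1, hd1'⟩ := exists_pos_deg_of_isIrr i₁.2
    have h3 := hform 1
    rw [h0, hd0', hd1'] at h3
    have h4 : c i₀ * (d0 : ℤ) + c i₁ * (d1 : ℤ) = 0 := by
      exact_mod_cast h3.symm
    have hs0 : c i₀ = 1 ∨ c i₀ = -1 := by
      have : (c i₀ - 1) * (c i₀ + 1) = 0 := by ring_nf; omega
      rcases mul_eq_zero.1 this with h | h
      · left; omega
      · right; omega
    have hs1 : c i₁ = 1 ∨ c i₁ = -1 := by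
      have : (c i₁ - 1) * (c i₁ + 1) = 0 := by ring_nf; omega
      rcases mul_eq_zero.1 this with h | h
      · left; omega
      · right; omega
    have hcc : c i₁ = - c i₀ ∧ (d1 : ℤ) = d0 := by
      rcases hs0 with h5 | h5 <;> rcases hs1 with h6 | h6 <;> rw [h5, h6] at h4 <;> rw [h5, h6] <;>
        constructor <;> omega
    refine ⟨i₁, hne, hcc.1, ?_, ?_⟩
    · rw [hd0', hd1']
      have : d1 = d0 := by exact_mod_cast hcc.2
      rw [this]
    · intro g
      rw [hform g, hcc.1]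
      push_cast
      ring
  · exfalso
    push Not at hex
    have h3 : ∑ j, (c j : ℂ) * (j : G → ℂ) 1 = (c i₀ : ℂ) * (i₀ : G → ℂ) 1 := by
      apply Finset.sum_eq_single
      · intro j _ hj
        rw [hex j hj]
        simp
      · intro h
        exact absurd (Finset.mem_univ _) h
    rw [h0] at h3
    obtain ⟨d0, hd0, hd0'⟩ := exists_pos_deg_of_isIrr i₀.2
    rw [hd0'] at h3
    have h4 : c i₀ * (d0 : ℤ) = 0 := by exact_mod_cast h3.symm
    rcases mul_eq_zero.1 h4 with h | h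
    · exact hi h
    · have : d0 = 0 := by exact_mod_cast h
      omega


section Main

theorem prod_formula (h : Hyp T x) {χ : G → ℂ} (hχ : IsIrrCharacter G χ) {u : G} (hu : u ∈ T)
    (hu1 : u ≠ 1) : χ (x * u) * χ 1 = χ x * χ u := by
  have h1 := sum_irr_mul_conj' hχ x u
  have h2 : ∀ y : G, χ (x * (y * u * y⁻¹)) = χ (x * u) := fun y =>
    isClassFunction_iff_isConj.1 (isClassFunction_of_isIrrCharacter hχ) _ _ (h.prod u hu hu1 y)
  simp only [h2, Finset.sum_const, Finset.card_univ, nsmul_eq_mul] at h1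
  have h3 : (Nat.card G : ℂ) ≠ 0 := card_ne_zero'
  rw [← Nat.card_eq_fintype_card] at h1
  have h4 := irr_one_ne_zero hχ
  field_simp at h1
  exact h1

variable [Fintype T]

theorem fd_out {f : T → ℂ} {y : G} (hy : ∀ g : G, g⁻¹ * y * g ∉ T) : indFun T f y = 0 := by
  rw [indFun_apply, Finset.sum_eq_zero, mul_zero]
  intro g _
  exact extendByZero_of_not_mem T f (hy g)

theorem coeff_zero (h : Hyp T x) (hT : ∀ a ∈ T, ∀ b ∈ T, a * b = b * a) {lam mu : T →* ℂˣ}
    (hl : lam ≠ 1) (hm : mu ≠ 1) (hne : ∀ (g : G) (hg : Nm T g), lam.comp (cj T hT g hg) ≠ mu)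
    {χ : G → ℂ} (hχ : IsIrrCharacter G χ) (hχx : χ x ≠ 0) :
    classInner (indFun T (fd lam mu)) χ = 0 := by
  classical
  haveI : Finite (IrrCharacter G) := finite_irrCharacter
  letI : Fintype (IrrCharacter G) := Fintype.ofFinite _
  set θ := indFun T (fd lam mu) with hθ
  have hnorm : classInner θ θ = 2 := norm_theta h.cen hT hl hm hne
  have hc1 : IsCharacter G (indFun T (fun t : T => (lam t : ℂ))) :=
    Cfsg.Agent.Lib.Char.IndRep.isCharacter_indFun T
      (isCharacter_of_isIrrCharacter (isIrrCharacter_of_hom lam))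
  have hc2 : IsCharacter G (indFun T (fun t : T => (mu t : ℂ))) :=
    Cfsg.Agent.Lib.Char.IndRep.isCharacter_indFun T
      (isCharacter_of_isIrrCharacter (isIrrCharacter_of_hom mu))
  obtain ⟨m, hm'⟩ := exists_nat_combination hc1
  obtain ⟨n, hn'⟩ := exists_nat_combination hc2
  let c : IrrCharacter G → ℤ := fun i => (m i : ℤ) - (n i : ℤ)
  have hθc : θ = ∑ j, c j • (j : G → ℂ) := by
    rw [hθ, fd_eq_sub, indFun_sub, hm', hn']
    funext g
    simp only [Pi.sub_apply, Finset.sum_apply, Pi.smul_apply, c, ← Finset.sum_sub_distrib]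
    refine Finset.sum_congr rfl fun j _ => ?_
    simp only [nsmul_eq_mul, zsmul_eq_mul]
    push_cast
    ring
  have hθg : ∀ g : G, θ g = ∑ j, (c j : ℂ) * (j : G → ℂ) g := by
    intro g
    rw [hθc]
    simp only [Finset.sum_apply, Pi.smul_apply]
    refine Finset.sum_congr rfl fun j _ => ?_
    rw [zsmul_eq_mul]
  have hsq : ∑ j, c j ^ 2 = 2 := by
    have h1 := classInner_self_of_int_combination c
    rw [← hθc, hnorm] at h1
    exact_mod_cast h1.symm
  by_contra hcne
  let i₀ : IrrCharacter G := ⟨χ, hχ⟩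
  have hci₀ : classInner θ χ = c i₀ := by
    have := classInner_of_int_combination c i₀
    rwa [← hθc] at this
  have hi₀ : c i₀ ≠ 0 := by
    intro h0
    apply hcne
    rw [hci₀, h0]
    simp
  have hθ1 : θ 1 = 0 := by
    rw [hθ, indFun_one, fd_one, mul_zero]
  obtain ⟨i₁, _, hc1', hd, hform⟩ := decomp c hsq (by rw [← hθg]; exact hθ1) i₀ hi₀
  have hc0C : (c i₀ : ℂ) ≠ 0 := by exact_mod_cast hi₀
  have hval : ∀ g : G, θ g = 0 → χ g = (i₁ : G → ℂ) g := by
    intro g hg
    have := hform g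
    rw [← hθg, hg] at this
    have h2 := (mul_eq_zero.1 this.symm).resolve_left hc0C
    exact sub_eq_zero.1 h2
  have hx0 : θ x = 0 := fd_out h.x_out
  have hx1 := hval x hx0
  have hzero : ∀ u ∈ T, u ≠ 1 → θ u = 0 := by
    intro u hu hu1
    have h3 := hval (x * u) (fd_out (h.xu_out u hu hu1))
    have h4 := prod_formula h hχ hu hu1
    have h5 := prod_formula h i₁.2 hu hu1
    have hd' : (i₁ : G → ℂ) 1 = χ 1 := hd
    rw [← h3, hd', ← hx1, h4] at h5
    have h6 : χ u = (i₁ : G → ℂ) u := mul_left_cancel₀ hχx h5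
    rw [hθg u, hform u]
    show (c i₀ : ℂ) * (χ u - (i₁ : G → ℂ) u) = 0
    rw [h6]
    simp
  have hz : classInner θ θ = 0 := by
    rw [hθ, classInner_indFun_left T _ _ (isClassFunction_indFun T _), classInner_subgroup_eq,
      Finset.sum_eq_zero, mul_zero]
    intro t _
    by_cases ht : t = 1
    · rw [ht, fd_one, zero_mul]
    · have h1 : ((t : T) : G) ≠ 1 := fun h => ht (Subtype.ext h)
      have := hzero t t.2 h1
      rw [hθ] at this
      rw [this]
      simp
  rw [hz] at hnorm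
  norm_num at hnorm

/-- Restriction to `T` of a class function. -/
theorem isClass_restrict {χ : G → ℂ} (hχ : IsClassFunction G χ) :
    IsClassFunction T (fun t : T => χ t) := by
  intro a b
  exact hχ a b

theorem inner_eq_of_ne_one (h : Hyp T x) (hT : ∀ a ∈ T, ∀ b ∈ T, a * b = b * a) {lam mu : T →* ℂˣ}
    (hl : lam ≠ 1) (hm : mu ≠ 1) {χ : G → ℂ} (hχ : IsIrrCharacter G χ) (hχx : χ x ≠ 0) :
    classInner (fun t : T => χ t) (fun t : T => (lam t : ℂ)) =
      classInner (fun t : T => χ t) (fun t : T => (mu t : ℂ)) := by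
  have hcl := isClassFunction_of_isIrrCharacter hχ
  by_cases hex : ∃ (g : G) (hg : Nm T g), lam.comp (cj T hT g hg) = mu
  · obtain ⟨g, hg, rfl⟩ := hex
    rw [classInner_subgroup_eq, classInner_subgroup_eq]
    congr 1
    rw [← (cj_bijective hT g hg).sum_comp]
    refine Finset.sum_congr rfl fun t _ => ?_
    simp only [MonoidHom.comp_apply, coe_cj]
    have := hcl (t : G) g⁻¹
    rw [inv_inv] at this
    rw [this]
  · push Not at hex
    have h0 := coeff_zero h hT hl hm hex hχ hχx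
    have h1 : classInner χ (indFun T (fd lam mu)) = 0 := by
      rw [← classInner_conj, h0]
      simp
    rw [classInner_indFun_right T _ _ hcl, fd_eq_sub, classInner_sub_right] at h1
    exact sub_eq_zero.1 h1

theorem const_on_T (h : Hyp T x) {χ : G → ℂ} (hχ : IsIrrCharacter G χ) (hχx : χ x ≠ 0)
    {u u' : G} (hu : u ∈ T) (hu1 : u ≠ 1) (hu' : u' ∈ T) (hu1' : u' ≠ 1) : χ u = χ u' := by
  classical
  have hT : ∀ a ∈ T, ∀ b ∈ T, a * b = b * a := fun a ha b hb => comm_of_hyp h.cen ha hb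
  have hcomm : ∀ a b : T, a * b = b * a := fun a b => Subtype.ext (hT _ a.2 _ b.2)
  haveI : Finite (IrrCharacter T) := finite_irrCharacter
  letI : Fintype (IrrCharacter T) := Fintype.ofFinite _
  have hcl := isClass_restrict (T := T) (isClassFunction_of_isIrrCharacter hχ)
  have hexp := classFunction_eq_sum hcl
  have hL : ∀ i : IrrCharacter T, ∃ lam : T →* ℂˣ, (i : T → ℂ) = fun g => (lam g : ℂ) := fun i =>
    exists_hom_of_deg_one (isCharacter_of_isIrrCharacter i.2) (isIrr_deg_one_of_comm hcomm i.2)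
  choose L hLe using hL
  have hsum0 : ∀ t : T, t ≠ 1 → ∑ i : IrrCharacter T, ((L i t : ℂˣ) : ℂ) = 0 := by
    intro t ht
    have h1 := sum_irr_mul_conj t (1 : T)
    rw [if_neg (by
      intro hc
      exact ht ((isConj_comm.1 hc |> isConj_one_right.1))) ] at h1
    rw [← h1]
    refine Finset.sum_congr rfl fun i _ => ?_
    rw [hLe i]
    simp
  have hval : ∀ t : T, χ t = ∑ i : IrrCharacter T,
      classInner (fun t : T => χ t) (fun s : T => (L i s : ℂ)) * ((L i t : ℂˣ) : ℂ) := by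
    intro t
    have := congrFun hexp t
    simp only [Finset.sum_apply, Pi.smul_apply, smul_eq_mul] at this
    rw [this]
    refine Finset.sum_congr rfl fun i _ => ?_
    rw [hLe i]
  have e1 := hval ⟨u, hu⟩
  have e2 := hval ⟨u', hu'⟩
  have hu0 : (⟨u, hu⟩ : T) ≠ 1 := fun e => hu1 (congrArg Subtype.val e)
  have hu0' : (⟨u', hu'⟩ : T) ≠ 1 := fun e => hu1' (congrArg Subtype.val e)
  simp only at e1 e2
  rw [e1, e2, ← sub_eq_zero, ← Finset.sum_sub_distrib]
  by_cases hex : ∃ i₀, L i₀ ≠ 1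
  · obtain ⟨i₀, hi₀⟩ := hex
    set a := classInner (fun t : T => χ t) (fun s : T => (L i₀ s : ℂ)) with ha
    have hterm : ∀ i : IrrCharacter T,
        classInner (fun t : T => χ t) (fun s : T => (L i s : ℂ)) * ((L i ⟨u, hu⟩ : ℂˣ) : ℂ)
        - classInner (fun t : T => χ t) (fun s : T => (L i s : ℂ)) * ((L i ⟨u', hu'⟩ : ℂˣ) : ℂ)
        = a * ((L i ⟨u, hu⟩ : ℂˣ) : ℂ) - a * ((L i ⟨u', hu'⟩ : ℂˣ) : ℂ) := by
      intro i
      by_cases hi : L i = 1
      · simp [hi]
      · rw [inner_eq_of_ne_one h hT hi hi₀ hχ hχx]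
    simp only [hterm]
    rw [Finset.sum_sub_distrib, ← Finset.mul_sum, ← Finset.mul_sum, hsum0 _ hu0, hsum0 _ hu0']
    simp
  · push Not at hex
    apply Finset.sum_eq_zero
    intro i _
    simp [hex i]

/-- The main theorem. -/
theorem isConj_mul_mul (h : Hyp T x) {u u' : G} (hu : u ∈ T) (hu1 : u ≠ 1) (hu' : u' ∈ T)
    (hu1' : u' ≠ 1) : IsConj (x * u) (x * u') := by
  classical
  rw [isConj_iff_forall_irr]
  intro χ
  have h1 := prod_formula h χ.2 hu hu1
  have h2 := prod_formula h χ.2 hu' hu1'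
  have hd := irr_one_ne_zero χ.2
  apply mul_right_cancel₀ hd
  rw [h1, h2]
  by_cases hx : (χ : G → ℂ) x = 0
  · rw [hx, zero_mul, zero_mul]
  · rw [const_on_T h χ.2 hx hu hu1 hu' hu1']

end Main

end Cfsg.Agent.Lib.Rank3.Except
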