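import Cfsg.Agent.Lib.Rank3.Chain2
import Cfsg.Agent.Lib.Rank3.Except

/-!
# Simple groups with three class sizes: the abelian subgroup `T`
-/

set_option autoImplicit false
set_option linter.style.haveILetI false
set_option linter.unusedSectionVars false
set_option linter.unusedVariables false

namespace Cfsg.Agent.Lib.Rank3.Chain

open Subgroup Cfsg
open Cfsg.Agent.Lib.ClassGraph.Basic Cfsg.Agent.Lib.ClassGraph.Top

universe u

section BT

variable {G : Type u} [Group G] [Finite G]

/-- If `C(t) = L` for all `t ∈ L#` and `t`, `g t g⁻¹` both lie in `L#` then `g` normalises `L`. -/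
theorem mem_normalizer_of_conj_mem {L : Subgroup G}
    (hL : ∀ v ∈ L, v ≠ 1 → centralizer ({v} : Set G) = L) {t g : G} (ht : t ∈ L) (ht1 : t ≠ 1)
    (hg : g * t * g⁻¹ ∈ L) : g ∈ normalizer (L : Set G) := by
  rw [mem_normalizer_iff]
  have hg1 : g * t * g⁻¹ ≠ 1 := by
    intro h
    apply ht1
    have : t = g⁻¹ * (g * t * g⁻¹) * g := by group
    rw [this, h]
    group
  intro h
  change h ∈ L ↔ g * h * g⁻¹ ∈ L
  have h1 : h ∈ L ↔ h * t = t * h := by
    conv_lhs => rw [← hL t ht ht1]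
    exact mem_cen
  have h2 : g * h * g⁻¹ ∈ L ↔ g * h * g⁻¹ * (g * t * g⁻¹) = (g * t * g⁻¹) * (g * h * g⁻¹) := by
    conv_lhs => rw [← hL _ hg hg1]
    exact mem_cen
  rw [h1, h2]
  constructor
  · intro e
    calc g * h * g⁻¹ * (g * t * g⁻¹) = g * (h * t) * g⁻¹ := by group
      _ = g * (t * h) * g⁻¹ := by rw [e]
      _ = g * t * g⁻¹ * (g * h * g⁻¹) := by group
  · intro e
    have e2 : g * (h * t) * g⁻¹ = g * (t * h) * g⁻¹ := by
      calc g * (h * t) * g⁻¹ = g * h * g⁻¹ * (g * t * g⁻¹) := by group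
        _ = g * t * g⁻¹ * (g * h * g⁻¹) := e
        _ = g * (t * h) * g⁻¹ := by group
    have e3 := mul_left_cancel (mul_right_cancel e2)
    exact e3

theorem comm_of_self_cen {L : Subgroup G}
    (hL : ∀ v ∈ L, v ≠ 1 → centralizer ({v} : Set G) = L) {a b : G} (ha : a ∈ L) (hb : b ∈ L) :
    a * b = b * a := by
  by_cases h1 : a = 1
  · simp [h1]
  · have : b ∈ centralizer ({a} : Set G) := by rw [hL a ha h1]; exact hb
    exact (mem_cen.1 this).symm

/-- Burnside transfer: a self-centralising TI subgroup cannot be self-normalising in a simple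
nonabelian group. -/
theorem exists_normalizer_not_mem [IsSimpleGroup G] (hZ : center G = ⊥) {L : Subgroup G}
    (hne : L ≠ ⊥) (hL : ∀ v ∈ L, v ≠ 1 → centralizer ({v} : Set G) = L) :
    ∃ g ∈ normalizer (L : Set G), g ∉ L := by
  classical
  by_contra hno
  push Not at hno
  obtain ⟨v₀, hv₀, hv₀1⟩ := (Subgroup.bot_or_exists_ne_one _).resolve_left hne
  obtain ⟨p, k, hp, hpk⟩ := exists_prime_order_pow hv₀1
  haveI : Fact p.Prime := ⟨hp⟩
  set t := v₀ ^ k with ht
  have htL : t ∈ L := L.pow_mem hv₀ k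
  have ht1 : t ≠ 1 := by
    intro h
    rw [h, orderOf_one] at hpk
    exact hp.one_lt.ne hpk
  have hQ : IsPGroup p (zpowers t) := by
    rw [IsPGroup.iff_card]
    exact ⟨1, by rw [Nat.card_zpowers, hpk, pow_one]⟩
  obtain ⟨S, hS⟩ := hQ.exists_le_sylow
  have htS : t ∈ (S : Subgroup G) := hS (mem_zpowers t)
  haveI hSnt : Nontrivial (S : Subgroup G) :=
    ⟨⟨⟨t, htS⟩, 1, fun h => ht1 (congrArg Subtype.val h)⟩⟩
  obtain ⟨z', hz'1⟩ : ∃ z' : center (S : Subgroup G), z' ≠ 1 := by
    haveI := S.isPGroup'.center_nontrivial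
    exact exists_ne 1
  set z : G := ((z' : (S : Subgroup G)) : G) with hz
  have hzS : z ∈ (S : Subgroup G) := (z' : (S : Subgroup G)).2
  have hz1 : z ≠ 1 := by
    intro h
    apply hz'1
    apply Subtype.ext
    apply Subtype.ext
    exact h
  have hSz : (S : Subgroup G) ≤ centralizer ({z} : Set G) := by
    intro g hg
    rw [mem_cen]
    have := (mem_center_iff.1 z'.2) ⟨g, hg⟩
    exact (congrArg Subtype.val this)
  have hzL : z ∈ L := by
    rw [← hL t htL ht1, mem_cen]
    exact (mem_cen.1 (hSz htS)).symm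
  have hzC : centralizer ({z} : Set G) = L := hL z hzL hz1
  have hSL : (S : Subgroup G) ≤ L := hzC ▸ hSz
  have hNC : normalizer ((S : Subgroup G) : Set G) ≤ centralizer ((S : Subgroup G) : Set G) := by
    intro g hg
    have h1 : g * z * g⁻¹ ∈ L := hSL ((mem_normalizer_iff.1 hg z).1 hzS)
    have h2 := hno g (mem_normalizer_of_conj_mem hL hzL hz1 h1)
    rw [mem_centralizer_iff]
    intro s hs
    exact comm_of_self_cen hL (hSL hs) h2
  have hcomp := MonoidHom.ker_transferSylow_isComplement' S hNC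
  have hcard := hcomp.card_mul_card
  rcases IsSimpleGroup.eq_bot_or_eq_top_of_normal _ (MonoidHom.normal_ker (MonoidHom.transferSylow S hNC)) with h | h
  · rw [h, Subgroup.card_bot, one_mul] at hcard
    have hStop : (S : Subgroup G) = ⊤ := by
      apply Subgroup.eq_top_of_card_eq
      exact hcard
    have hztop : z ∈ center G := by
      rw [mem_center_iff]
      intro g
      have : g ∈ centralizer ({z} : Set G) := hSz (by rw [hStop]; trivial)
      exact mem_cen.1 this
    rw [hZ] at hztop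
    exact hz1 (by simpa using hztop)
  · rw [h, Subgroup.card_top] at hcard
    have h3 : Nat.card (S : Subgroup G) = 1 := by
      have h4 : 0 < Nat.card G := Nat.card_pos
      exact Nat.eq_of_mul_eq_mul_left h4 (by rw [hcard, mul_one])
    rw [Subgroup.card_eq_one] at h3
    rw [h3] at htS
    exact ht1 (by simpa using htS)

end BT

variable {G : Type u} [Group G] [Finite G] {a b e : ℕ} (H : Hyp G a b e)

include H

theorem not_prime_power [IsSimpleGroup G] {p k : ℕ} (hp : p.Prime) : a ≠ p ^ k := by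
  intro h
  obtain ⟨x, hx1, hx⟩ := H.exA
  have h1 := Cfsg.Agent.Lib.Char.Burnside.prime_card_of_simple_of_prime_power_class p k hp x hx1
    (hx.trans h)
  haveI : Fact (Nat.card G).Prime := ⟨h1⟩
  haveI : IsCyclic G := isCyclic_of_prime_card rfl
  have h2 : x ∈ center G := by
    rw [mem_center_iff]
    intro g
    exact mul_comm' g x
  exact not_mem_center H hx1 h2

theorem three_le_a [IsSimpleGroup G] : 3 ≤ a := by
  have h1 := one_lt_a H
  have h2 : a ≠ 2 := by
    have := not_prime_power H (p := 2) (k := 1) Nat.prime_two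
    simpa using this
  omega

theorem exists_other_prime [IsSimpleGroup G] (p : ℕ) : ∃ q : ℕ, q.Prime ∧ q ∣ a ∧ q ≠ p := by
  by_contra hno
  push Not at hno
  have h1 := one_lt_a H
  obtain ⟨q, hq, hqa⟩ := Nat.exists_prime_and_dvd (show a ≠ 1 by omega)
  have hqp := hno q hq hqa
  subst hqp
  exact not_prime_power H hq (Nat.eq_prime_pow_of_unique_prime_dvd (by omega)
    (fun {d} hd hda => hno d hd hda))

/-- The key property of `T = C(u)`. -/
theorem cen_of_mem_T [IsSimpleGroup G] {u t : G} (hu : cs u = b) (hu1 : u ≠ 1)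
    (ht : t ∈ centralizer ({u} : Set G)) (ht1 : t ≠ 1) :
    centralizer ({t} : Set G) = centralizer ({u} : Set G) := by
  set T := centralizer ({u} : Set G) with hT
  have hTc : Nat.card T = a := card_cen_of_b H hu
  have hord : ∀ s ∈ T, orderOf s ∣ a := by
    intro s hs
    rw [← hTc]
    have h1 : orderOf (⟨s, hs⟩ : T) = orderOf s := Subgroup.orderOf_mk _ _
    rw [← h1]
    exact orderOf_dvd_natCard _
  obtain ⟨p₀, k₀, hp₀, hpk₀⟩ := exists_prime_order_pow hu1
  set u₁ := u ^ k₀ with hu₁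
  have hu₁1 : u₁ ≠ 1 := by
    intro h
    rw [h, orderOf_one] at hpk₀
    exact hp₀.one_lt.ne hpk₀
  have hu₁T : u₁ ∈ T := T.pow_mem (mem_cen.2 rfl) k₀
  have hle : T ≤ centralizer ({u₁} : Set G) := cen_le_of_zpow ⟨k₀, by simp [hu₁]⟩
  have hcs₁ : cs u₁ = b := typeB_of_le H hu hu₁1 hle
  have hTu₁ : centralizer ({u₁} : Set G) = T := by
    symm
    apply eq_of_le_of_index_eq hle
    change cs u = cs u₁
    rw [hu, hcs₁]
  have claimA : ∀ s ∈ T, ∀ ℓ : ℕ, ℓ.Prime → orderOf s = ℓ → ℓ ≠ p₀ → centralizer ({s} : Set G) = T := by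
    intro s hs ℓ hℓ ho hne
    have hs1 : s ≠ 1 := by
      intro h
      rw [h, orderOf_one] at ho
      exact hℓ.one_lt.ne ho
    have hcomm : s * u₁ = u₁ * s := by
      have : s ∈ centralizer ({u₁} : Set G) := hTu₁.symm ▸ hs
      exact mem_cen.1 this
    have := cen_eq_of_comm H hs1 hu₁1 (hord s hs) (hord u₁ hu₁T) hcomm
      (by rw [ho, hpk₀]; exact (Nat.coprime_primes hℓ hp₀).2 hne)
    rw [this, hTu₁]
  have claimB : ∀ s ∈ T, ∀ ℓ : ℕ, ℓ.Prime → orderOf s = ℓ → centralizer ({s} : Set G) = T := by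
    intro s hs ℓ hℓ ho
    by_cases hne : ℓ = p₀
    · subst hne
      obtain ⟨q, hq, hqa, hqne⟩ := exists_other_prime H ℓ
      haveI : Fact q.Prime := ⟨hq⟩
      obtain ⟨s', hs'⟩ := exists_prime_orderOf_dvd_card' (G := T) q (by rw [hTc]; exact hqa)
      have hs'o : orderOf ((s' : T) : G) = q := by
        rw [← hs']
        exact (Subgroup.orderOf_coe s')
      have hCs' := claimA (s' : G) s'.2 q hq hs'o hqne
      have hs1 : s ≠ 1 := by
        intro h
        rw [h, orderOf_one] at ho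
        exact hℓ.one_lt.ne ho
      have hs'1 : (s' : G) ≠ 1 := by
        intro h
        rw [h, orderOf_one] at hs'o
        exact hq.one_lt.ne hs'o
      have hcomm : s * (s' : G) = (s' : G) * s := by
        have : s ∈ centralizer ({(s' : G)} : Set G) := hCs'.symm ▸ hs
        exact mem_cen.1 this
      have := cen_eq_of_comm H hs1 hs'1 (hord s hs) (hord _ s'.2) hcomm
        (by rw [ho, hs'o]; exact (Nat.coprime_primes hℓ hq).2 (Ne.symm hqne))
      rw [this, hCs']
    · exact claimA s hs ℓ hℓ ho hne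
  -- general `t`
  obtain ⟨ℓ, k, hℓ, hℓk⟩ := exists_prime_order_pow ht1
  have ht₁T : t ^ k ∈ T := T.pow_mem ht k
  have ht₁C := claimB _ ht₁T ℓ hℓ hℓk
  have ht₁1 : t ^ k ≠ 1 := by
    intro h
    rw [h, orderOf_one] at hℓk
    exact hℓ.one_lt.ne hℓk
  have h1 : cs t = b := cs_of_order_dvd H ht1 (hord t ht)
  apply eq_of_le_of_index_eq
  · rw [← ht₁C]
    exact cen_le_of_zpow ⟨k, by simp⟩
  · change cs t = cs u
    rw [h1, hu]

theorem cs_of_mem_T [IsSimpleGroup G] {u t : G} (hu : cs u = b) (hu1 : u ≠ 1)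
    (ht : t ∈ centralizer ({u} : Set G)) (ht1 : t ≠ 1) : cs t = b := by
  rw [← hu]
  change (centralizer ({t} : Set G)).index = (centralizer ({u} : Set G)).index
  rw [cen_of_mem_T H hu hu1 ht ht1]

theorem mul_ne_one_of_types [IsSimpleGroup G] {x w : G} (hx : cs x = a) (hx1 : x ≠ 1) (hw : cs w = b)
    (hw1 : w ≠ 1) : x * w ≠ 1 := by
  intro h
  apply not_comm_of_coprime H.cen hx1 hw1 (by rw [hx, hw]; exact H.cop)
  have : w = x⁻¹ := eq_inv_of_mul_eq_one_right h
  rw [this]
  group

/-- The hypotheses of the exceptional character argument. -/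
theorem exceptHyp [IsSimpleGroup G] {u x : G} (hu : cs u = b) (hu1 : u ≠ 1) (hx : cs x = a) (hx1 : x ≠ 1) :
    Cfsg.Agent.Lib.Rank3.Except.Hyp (centralizer ({u} : Set G)) x where
  cen := fun t ht ht1 => cen_of_mem_T H hu hu1 ht ht1
  prod := by
    intro s hs hs1 g
    have hs2 := cs_of_mem_T H hu hu1 hs hs1
    exact (isConj_mul (by rw [hx, hs2]; exact H.cop) (IsConj.refl x)
      (isConj_iff.2 ⟨g, rfl⟩)).symm
  x_out := by
    intro g hg
    have h1 : g⁻¹ * x * g ≠ 1 := by
      intro h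
      apply hx1
      have : x = g * (g⁻¹ * x * g) * g⁻¹ := by group
      rw [this, h]
      group
    have h2 := cs_of_mem_T H hu hu1 hg h1
    have h3 := cs_conj x g⁻¹
    rw [inv_inv, h2, hx] at h3
    exact a_ne_b H h3.symm
  xu_out := by
    intro s hs hs1 g hg
    have hs2 := cs_of_mem_T H hu hu1 hs hs1
    have h0 := mul_ne_one_of_types H hx hx1 hs2 hs1
    have h1 : g⁻¹ * (x * s) * g ≠ 1 := by
      intro h
      apply h0
      have : x * s = g * (g⁻¹ * (x * s) * g) * g⁻¹ := by group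
      rw [this, h]
      group
    have h2 := cs_of_mem_T H hu hu1 hg h1
    have h3 := cs_conj (x * s) g⁻¹
    rw [inv_inv, h2, cs_mul H hx hx1 hs2 hs1] at h3
    exact e_ne_b H h3.symm

theorem isConj_xu [IsSimpleGroup G] {u x s s' : G} (hu : cs u = b) (hu1 : u ≠ 1) (hx : cs x = a)
    (hx1 : x ≠ 1) (hs : s ∈ centralizer ({u} : Set G)) (hs1 : s ≠ 1)
    (hs' : s' ∈ centralizer ({u} : Set G)) (hs1' : s' ≠ 1) : IsConj (x * s) (x * s') := by
  classical
  letI := Fintype.ofFinite G
  letI : Fintype (centralizer ({u} : Set G)) := Fintype.ofFinite _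
  exact Cfsg.Agent.Lib.Rank3.Except.isConj_mul_mul (exceptHyp H hu hu1 hx hx1) hs hs1 hs' hs1'

end Cfsg.Agent.Lib.Rank3.Chain
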