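import Cfsg.Agent.Lib.Rank3.Chain3

/-!
# Simple groups with three class sizes: the case of nested centralisers does not occur
-/

set_option autoImplicit false
set_option linter.style.haveILetI false
set_option linter.unusedSectionVars false
set_option linter.unusedVariables false

namespace Cfsg.Agent.Lib.Rank3.Chain

open Subgroup Cfsg
open Cfsg.Agent.Lib.ClassGraph.Basic Cfsg.Agent.Lib.ClassGraph.Top
open scoped Pointwise

universe u

section Count

variable {G : Type u} [Group G] [Finite G]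

open Classical in
/-- The union of conjugates of `L#`. -/
noncomputable def P0 [Fintype G] (L : Subgroup G) : Finset G :=
  Finset.univ.filter (fun z => ∃ g : G, ∃ t ∈ L, t ≠ 1 ∧ z = g * t * g⁻¹)

/-- Counting the elements in the conjugates of a TI subgroup. -/
theorem card_mul_le_P0 [Fintype G] {L : Subgroup G}
    (hL : ∀ v ∈ L, v ≠ 1 → centralizer ({v} : Set G) = L) :
    (Nat.card L - 1) * Nat.card G ≤ Nat.card (normalizer (L : Set G)) * (P0 L).card := by
  classical
  let Ls : Finset G := Finset.univ.filter (fun t => t ∈ L ∧ t ≠ 1)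
  have hLs : Ls.card = Nat.card L - 1 := by
    have h1 : Ls = (Finset.univ.filter (fun t => t ∈ L)).erase 1 := by
      ext t
      simp [Ls, and_comm]
    rw [h1, Finset.card_erase_of_mem (by simp [L.one_mem])]
    rw [Nat.card_eq_fintype_card, Fintype.card_subtype]
  let s : Finset (G × G) := Finset.univ ×ˢ Ls
  let φ : G × G → G := fun p => p.1 * p.2 * p.1⁻¹
  have hs : s.card = Nat.card G * (Nat.card L - 1) := by
    rw [Finset.card_product, hLs, Finset.card_univ, Nat.card_eq_fintype_card (α := G)]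
  have himg : s.image φ ⊆ P0 L := by
    intro z hz
    obtain ⟨p, hp, rfl⟩ := Finset.mem_image.1 hz
    have hp2 := (Finset.mem_filter.1 (Finset.mem_product.1 hp).2).2
    exact Finset.mem_filter.2 ⟨Finset.mem_univ _, p.1, p.2, hp2.1, hp2.2, rfl⟩
  have hfib : ∀ a ∈ s.image φ, (s.filter (fun p => φ p = a)).card ≤ Nat.card (normalizer (L : Set G)) := by
    intro a ha
    obtain ⟨p₀, hp₀, rfl⟩ := Finset.mem_image.1 ha
    have hp₀2 := (Finset.mem_filter.1 (Finset.mem_product.1 hp₀).2).2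
    rw [Nat.card_eq_fintype_card, Fintype.card_subtype]
    refine Finset.card_le_card_of_injOn (fun p => p₀.1⁻¹ * p.1) ?_ ?_
    · intro p hp
      have hp' := Finset.mem_filter.1 hp
      have hp2 := (Finset.mem_filter.1 (Finset.mem_product.1 hp'.1).2).2
      have e : φ p = φ p₀ := hp'.2
      simp only [φ] at e
      have hconj : (p₀.1⁻¹ * p.1) * p.2 * (p₀.1⁻¹ * p.1)⁻¹ = p₀.2 := by
        have : (p₀.1⁻¹ * p.1) * p.2 * (p₀.1⁻¹ * p.1)⁻¹ = p₀.1⁻¹ * (p.1 * p.2 * p.1⁻¹) * p₀.1 := by group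
        rw [this, e]
        group
      have hm := mem_normalizer_of_conj_mem hL hp2.1 hp2.2 (by rw [hconj]; exact hp₀2.1)
      simpa using hm
    · intro p hp q hq hpq
      have hp' := Finset.mem_filter.1 hp
      have hq' := Finset.mem_filter.1 hq
      have e1 : φ p = φ p₀ := hp'.2
      have e2 : φ q = φ p₀ := hq'.2
      have hpq' : p.1 = q.1 := mul_left_cancel hpq
      have e3 : φ p = φ q := e1.trans e2.symm
      simp only [φ] at e3
      rw [hpq'] at e3
      have h5 := mul_left_cancel (mul_right_cancel e3)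
      exact Prod.ext hpq' h5
  have h := Finset.card_le_mul_card_image s _ hfib
  have h2 : (s.image φ).card ≤ (P0 L).card := Finset.card_le_card himg
  calc (Nat.card L - 1) * Nat.card G = s.card := by rw [hs, mul_comm]
    _ ≤ _ := h
    _ ≤ _ := Nat.mul_le_mul_left _ h2

end Count

variable {G : Type u} [Group G] [Finite G] {a b e : ℕ} (H : Hyp G a b e)

include H

theorem T_decomp {x u : G} (hx : cs x = a) (hu : cs u = b) (g : G) :
    ∃ c ∈ centralizer ({x} : Set G), ∃ t ∈ centralizer ({u} : Set G), g = c * t :=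
  exists_mul_of_coprime (by rw [hx, hu]; exact H.cop) g

omit H in
theorem le_norm (T : Subgroup G) : T ≤ normalizer (T : Set G) := Subgroup.le_normalizer

theorem N_decomp {x u n : G} (hx : cs x = a) (hu : cs u = b)
    (hn : n ∈ normalizer ((centralizer ({u} : Set G) : Subgroup G) : Set G)) :
    ∃ c ∈ normalizer ((centralizer ({u} : Set G) : Subgroup G) : Set G) ⊓ centralizer ({x} : Set G),
      ∃ t ∈ centralizer ({u} : Set G), n = c * t := by
  obtain ⟨c, hc, t, ht, rfl⟩ := T_decomp H hx hu n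
  refine ⟨c, mem_inf.2 ⟨?_, hc⟩, t, ht, rfl⟩
  have h1 : (c * t) * t⁻¹ ∈ normalizer ((centralizer ({u} : Set G) : Subgroup G) : Set G) :=
    Subgroup.mul_mem _ hn (Subgroup.inv_mem _ (le_norm _ ht))
  simpa using h1

theorem T_ne_bot {u : G} (hu1 : u ≠ 1) : centralizer ({u} : Set G) ≠ ⊥ := by
  intro h
  have : u ∈ centralizer ({u} : Set G) := mem_cen.2 rfl
  rw [h] at this
  exact hu1 (by simpa using this)

theorem Y_ne_bot [IsSimpleGroup G] {x u : G} (hx : cs x = a) (hu : cs u = b) (hu1 : u ≠ 1) :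
    normalizer ((centralizer ({u} : Set G) : Subgroup G) : Set G) ⊓ centralizer ({x} : Set G) ≠ ⊥ := by
  intro hY
  obtain ⟨g, hg, hgT⟩ := exists_normalizer_not_mem H.cen (T_ne_bot H hu1)
    (fun t ht ht1 => cen_of_mem_T H hu hu1 ht ht1)
  obtain ⟨c, hc, t, ht, rfl⟩ := N_decomp H hx hu hg
  rw [hY] at hc
  have : c = 1 := by simpa using hc
  rw [this, one_mul] at hgT
  exact hgT ht

theorem T_inf_A [IsSimpleGroup G] {x u : G} (hx : cs x = a) (hx1 : x ≠ 1) (hu : cs u = b) (hu1 : u ≠ 1)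
    {t : G} (ht : t ∈ centralizer ({u} : Set G)) (htx : t ∈ centralizer ({x} : Set G)) : t = 1 := by
  have h := inf_eq_bot H hx hx1 hu hu1
  have : t ∈ centralizer ({x} : Set G) ⊓ centralizer ({u} : Set G) := mem_inf.2 ⟨htx, ht⟩
  rw [h] at this
  simpa using this

/-- `Y` has a nontrivial centre. -/
theorem exists_central_Y [IsSimpleGroup G] {x u : G} (hx : cs x = a) (hx1 : x ≠ 1) (hu : cs u = b)
    (hu1 : u ≠ 1) :
    ∃ y₁ ∈ normalizer ((centralizer ({u} : Set G) : Subgroup G) : Set G) ⊓ centralizer ({x} : Set G),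
      y₁ ≠ 1 ∧ ∀ y ∈ normalizer ((centralizer ({u} : Set G) : Subgroup G) : Set G) ⊓
        centralizer ({x} : Set G), y * y₁ = y₁ * y := by
  classical
  set T : Subgroup G := centralizer ({u} : Set G) with hT
  set A : Subgroup G := centralizer ({x} : Set G) with hA
  set N : Subgroup G := normalizer (T : Set G) with hN
  set Y : Subgroup G := N ⊓ A with hY
  have hYne : Y ≠ ⊥ := Y_ne_bot H hx hu hu1
  let K : Subgroup N := T.subgroupOf N
  let W : Subgroup N := Y.subgroupOf N
  haveI hKn : K.Normal := Subgroup.normal_in_normalizer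
  have hdis : Disjoint K W := by
    rw [Subgroup.disjoint_def]
    intro n hn1 hn2
    have h1 : (n : G) ∈ T := Subgroup.mem_subgroupOf.1 hn1
    have h2 : (n : G) ∈ Y := Subgroup.mem_subgroupOf.1 hn2
    have := T_inf_A H hx hx1 hu hu1 h1 (mem_inf.1 h2).2
    exact Subtype.ext this
  have hmul : ((K : Subgroup N) : Set N) * ((W : Subgroup N) : Set N) = Set.univ := by
    rw [Set.eq_univ_iff_forall]
    intro n
    obtain ⟨c, hc, t, ht, e1⟩ := N_decomp H hx hu (n⁻¹ : N).2
    have hcN : c ∈ N := (mem_inf.1 hc).1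
    have htN : t ∈ N := le_norm T ht
    refine Set.mem_mul.2 ⟨⟨t, htN⟩⁻¹, ?_, ⟨c, hcN⟩⁻¹, ?_, ?_⟩
    · exact K.inv_mem (Subgroup.mem_subgroupOf.2 ht)
    · exact W.inv_mem (Subgroup.mem_subgroupOf.2 hc)
    · apply Subtype.ext
      have e2 : (n : G)⁻¹ = c * t := by simpa using e1
      simp only [Subgroup.coe_mul, Subgroup.coe_inv]
      have : (n : G) = t⁻¹ * c⁻¹ := by
        have := congrArg (·⁻¹) e2
        simpa using this
      exact this.symm
  have hcompl : IsComplement' K W := isComplement'_of_disjoint_and_mul_eq_univ hdis hmul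
  have hKne : K ≠ ⊥ := by
    intro h
    have huT : u ∈ T := mem_cen.2 rfl
    have h1 : (⟨u, le_norm T huT⟩ : N) ∈ K := Subgroup.mem_subgroupOf.2 huT
    rw [h] at h1
    have h2 : (⟨u, le_norm T huT⟩ : N) = 1 := by simpa using h1
    exact hu1 (congrArg Subtype.val h2)
  have hWne : W ≠ ⊥ := by
    intro h
    apply hYne
    rw [eq_bot_iff]
    intro y hy
    have h1 : (⟨y, (mem_inf.1 hy).1⟩ : N) ∈ W := Subgroup.mem_subgroupOf.2 hy
    rw [h] at h1
    have h2 : (⟨y, (mem_inf.1 hy).1⟩ : N) = 1 := by simpa using h1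
    have h3 : y = 1 := congrArg Subtype.val h2
    simp [h3]
  have hfpf : ∀ h ∈ W, h ≠ 1 → K ⊓ centralizer {h} = ⊥ := by
    intro h hhW hh1
    rw [eq_bot_iff]
    intro k hk
    by_contra hk1
    have hk1' : k ≠ 1 := by simpa using hk1
    have hk2 := mem_inf.1 hk
    have hkT : (k : G) ∈ T := Subgroup.mem_subgroupOf.1 hk2.1
    have hk1G : (k : G) ≠ 1 := fun e => hk1' (Subtype.ext e)
    have hkh : k * h = h * k := mem_centralizer_singleton_iff.1 hk2.2
    have hhY : (h : G) ∈ Y := Subgroup.mem_subgroupOf.1 hhW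
    have hCk := cen_of_mem_T H hu hu1 hkT hk1G
    have hhT : (h : G) ∈ T := by
      rw [hT, ← hCk, mem_cen]
      have := congrArg Subtype.val hkh
      exact this.symm
    have := T_inf_A H hx hx1 hu hu1 hhT (mem_inf.1 hhY).2
    exact hh1 (Subtype.ext this)
  have hcenter := Cfsg.Agent.Lib.FPF.Complement.center_ne_bot hcompl hKne hWne hfpf
  obtain ⟨z, hz, hz1⟩ := (Subgroup.bot_or_exists_ne_one _).resolve_left hcenter
  refine ⟨((z : W) : N), Subgroup.mem_subgroupOf.1 (z : W).2, ?_, ?_⟩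
  · intro h
    apply hz1
    apply Subtype.ext
    apply Subtype.ext
    exact h
  · intro y hy
    have hyW : (⟨y, (mem_inf.1 hy).1⟩ : N) ∈ W := Subgroup.mem_subgroupOf.2 hy
    have h1 := (mem_center_iff.1 hz) ⟨⟨y, (mem_inf.1 hy).1⟩, hyW⟩
    have h2 := congrArg (fun w : W => ((w : N) : G)) h1
    exact h2

/-- A normaliser of `T` contains no element of type `a`. -/
theorem no_typeA_in_N [IsSimpleGroup G] {u n : G} (hu : cs u = b) (hu1 : u ≠ 1)
    (hn : n ∈ normalizer ((centralizer ({u} : Set G) : Subgroup G) : Set G)) (hna : cs n = a) : False := by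
  classical
  set T : Subgroup G := centralizer ({u} : Set G) with hT
  have hn1 : n ≠ 1 := by
    rintro rfl
    have : cs (1 : G) = 1 := cs_eq_one_iff.2 (one_mem _)
    have h1 := one_lt_a H
    omega
  have hmemT : ∀ t ∈ T, t * n * t⁻¹ * n⁻¹ ∈ T := by
    intro t ht
    have h1 : n * t⁻¹ * n⁻¹ ∈ T := (mem_normalizer_iff.1 hn _).1 (T.inv_mem ht)
    have h2 := T.mul_mem ht h1
    have e : t * (n * t⁻¹ * n⁻¹) = t * n * t⁻¹ * n⁻¹ := by group
    rwa [e] at h2
  have hinj0 : ∀ t ∈ T, ∀ t' ∈ T, t * n * t⁻¹ = t' * n * t'⁻¹ → t = t' := by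
    intro t ht t' ht' h
    by_contra hne
    have hs : t'⁻¹ * t ∈ T := T.mul_mem (T.inv_mem ht') ht
    have hs1 : t'⁻¹ * t ≠ 1 := by
      intro h1
      apply hne
      have : t = t' * (t'⁻¹ * t) := by group
      rw [this, h1, mul_one]
    have hs2 := cs_of_mem_T H hu hu1 hs hs1
    apply not_comm_of_coprime H.cen hs1 hn1 (by rw [hs2, hna]; exact H.cop.symm)
    have e1 : t'⁻¹ * t * n = t'⁻¹ * (t * n * t⁻¹) * t := by group
    rw [e1, h]
    group
  -- the class of `n` is contained in `T n`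
  have hcl : ∀ z, IsConj n z → ∃ t ∈ T, z = t * n * t⁻¹ := by
    let φ : T → {z : G // IsConj n z} := fun t =>
      ⟨t * n * (t : G)⁻¹, isConj_iff.2 ⟨t, rfl⟩⟩
    have hφ : Function.Injective φ := by
      intro s s' hss
      apply Subtype.ext
      exact hinj0 _ s.2 _ s'.2 (congrArg Subtype.val hss)
    have hb : Function.Bijective φ := by
      apply hφ.bijective_of_nat_card_le
      rw [card_class, hna, card_cen_of_b H hu]
    intro z hz
    obtain ⟨t, ht⟩ := hb.2 ⟨z, hz⟩
    exact ⟨t, t.2, (congrArg Subtype.val ht).symm⟩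
  -- all of `T n` is in the class of `n`
  have hall : ∀ τ ∈ T, ∃ t ∈ T, τ * n = t * n * t⁻¹ := by
    intro τ hτ
    let κ : T → T := fun t => ⟨t * n * (t : G)⁻¹ * n⁻¹, hmemT t t.2⟩
    have hκ : Function.Injective κ := by
      intro s s' hss
      apply Subtype.ext
      have := congrArg Subtype.val hss
      exact hinj0 _ s.2 _ s'.2 (mul_right_cancel this)
    obtain ⟨t, ht⟩ := (Finite.injective_iff_surjective.1 hκ) ⟨τ, hτ⟩
    refine ⟨t, t.2, ?_⟩
    have := congrArg Subtype.val ht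
    simp only [κ] at this
    rw [← this]
    group
  have hnorm : T.Normal := by
    constructor
    intro τ hτ g
    obtain ⟨t, ht, e1⟩ := hall τ hτ
    have h1 : IsConj n (g * (τ * n) * g⁻¹) := by
      rw [e1]
      refine isConj_iff.2 ⟨g * t, ?_⟩
      group
    have h2 : IsConj n (g * n * g⁻¹) := isConj_iff.2 ⟨g, rfl⟩
    obtain ⟨t₁, ht₁, e2⟩ := hcl _ h1
    obtain ⟨t₂, ht₂, e3⟩ := hcl _ h2
    have e4 : g * τ * g⁻¹ = (g * (τ * n) * g⁻¹) * (g * n * g⁻¹)⁻¹ := by group
    rw [e4, e2, e3]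
    have e5 : t₁ * n * t₁⁻¹ * (t₂ * n * t₂⁻¹)⁻¹ = (t₁ * n * t₁⁻¹ * n⁻¹) * (t₂ * n * t₂⁻¹ * n⁻¹)⁻¹ := by group
    rw [e5]
    exact T.mul_mem (hmemT _ ht₁) (T.inv_mem (hmemT _ ht₂))
  rcases IsSimpleGroup.eq_bot_or_eq_top_of_normal T hnorm with h | h
  · exact T_ne_bot H hu1 h
  · have : u ∈ center G := by
      rw [mem_center_iff]
      intro g
      have : g ∈ T := by rw [h]; trivial
      exact mem_cen.1 this
    exact not_mem_center H hu1 this

/-- **The chain case does not occur.** -/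
theorem chain_false [IsSimpleGroup G] (H : Hyp G a b e) : False := by
  classical
  letI := Fintype.ofFinite G
  obtain ⟨x, hx1, hx⟩ := H.exA
  obtain ⟨u, hu1, hu⟩ := H.exB
  obtain ⟨f, hf, hfb, hf1⟩ := exists_f H
  set T : Subgroup G := centralizer ({u} : Set G) with hT
  set A : Subgroup G := centralizer ({x} : Set G) with hA
  set N : Subgroup G := normalizer (T : Set G) with hN
  set Y : Subgroup G := N ⊓ A with hY
  obtain ⟨y₁, hy₁, hy₁1, hy₁c⟩ := exists_central_Y H hx hx1 hu hu1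
  have hy₁m := mem_inf.1 hy₁
  have hcsy : cs y₁ = e := by
    rcases H.sz y₁ hy₁1 with h | h | h
    · exact (no_typeA_in_N H hu hu1 hy₁m.1 h).elim
    · exfalso
      exact not_comm_of_coprime H.cen hx1 hy₁1 (by rw [hx, h]; exact H.cop) (mem_cen.1 hy₁m.2).symm
    · exact h
  have hcard : f * Nat.card (centralizer ({y₁} : Set G)) = b := card_cen_of_e H hf hfb hcsy
  have hYle : Y ≤ centralizer ({y₁} : Set G) := fun y hy => mem_cen.2 (hy₁c y hy)
  have hxC : x ∈ centralizer ({y₁} : Set G) := by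
    rw [mem_cen]
    exact (mem_cen.1 hy₁m.2).symm
  have hxY : x ∉ Y := fun h => no_typeA_in_N H hu hu1 (mem_inf.1 h).1 hx
  have h2Y : 2 * Nat.card Y ≤ Nat.card (centralizer ({y₁} : Set G)) := by
    obtain ⟨c, hc⟩ := Subgroup.card_dvd_of_le hYle
    have hY0 : 0 < Nat.card Y := Nat.card_pos
    have hc0 : c ≠ 0 := by
      rintro rfl
      have : 0 < Nat.card (centralizer ({y₁} : Set G)) := Nat.card_pos
      omega
    have hc1 : c ≠ 1 := by
      rintro rfl
      rw [mul_one] at hc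
      have : Y = centralizer ({y₁} : Set G) := Subgroup.eq_of_le_of_card_ge hYle (by omega)
      exact hxY (this ▸ hxC)
    have hc2 : 2 ≤ c := by omega
    rw [hc, mul_comm]
    exact Nat.mul_le_mul_left _ hc2
  have hineq1 : 2 * (f * Nat.card Y) ≤ b := by
    calc 2 * (f * Nat.card Y) = f * (2 * Nat.card Y) := by ring
      _ ≤ f * Nat.card (centralizer ({y₁} : Set G)) := Nat.mul_le_mul_left _ h2Y
      _ = b := hcard
  -- size of `N`
  have hNle : Nat.card N ≤ Nat.card Y * a := by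
    have hTc : Nat.card T = a := card_cen_of_b H hu
    rw [← hTc, ← Nat.card_prod]
    refine Nat.card_le_card_of_surjective
      (fun p : Y × T => (⟨(p.1 : G) * (p.2 : G),
        Subgroup.mul_mem _ (mem_inf.1 p.1.2).1 (le_norm T p.2.2)⟩ : N)) ?_
    intro n
    obtain ⟨c, hc, t, ht, e1⟩ := N_decomp H hx hu n.2
    exact ⟨(⟨c, hc⟩, ⟨t, ht⟩), Subtype.ext e1.symm⟩
  -- size of `P0`
  have hP0 : (P0 T).card ≤ e := by
    have huT : u ∈ T := mem_cen.2 rfl
    have hxu : cs (x * u) = e := cs_mul H hx hx1 hu hu1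
    rw [← hxu, ← card_class (x * u), Nat.card_eq_fintype_card, Fintype.card_subtype]
    refine Finset.card_le_card_of_injOn (fun z => x * z) ?_ ?_
    · intro z hz
      have hz' := (Finset.mem_filter.1 hz).2
      obtain ⟨g, t, ht, ht1, rfl⟩ := hz'
      have hcst := cs_of_mem_T H hu hu1 ht ht1
      have h1 : IsConj (x * t) (x * (g * t * g⁻¹)) :=
        isConj_mul (by rw [hx, hcst]; exact H.cop) (IsConj.refl x) (isConj_iff.2 ⟨g, rfl⟩)
      have h2 : IsConj (x * u) (x * t) := isConj_xu H hu hu1 hx hx1 huT hu1 ht ht1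
      simpa using h2.trans h1
    · intro z _ z' _ h
      exact mul_left_cancel h
  have hcnt := card_mul_le_P0 (L := T) (fun t ht ht1 => cen_of_mem_T H hu hu1 ht ht1)
  rw [card_cen_of_b H hu, card_eq H] at hcnt
  -- arithmetic
  have ha3 := three_le_a H
  have hY0 : 0 < Nat.card Y := Nat.card_pos
  have hf0 : 0 < f := by omega
  have h1 : (a - 1) * (a * b) ≤ (Nat.card Y * a) * (a * f) := by
    calc (a - 1) * (a * b) ≤ Nat.card N * (P0 T).card := hcnt
      _ ≤ (Nat.card Y * a) * e := Nat.mul_le_mul hNle hP0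
      _ = (Nat.card Y * a) * (a * f) := by rw [hf]
  have h2 : a * ((a - 1) * b) ≤ a * (a * (f * Nat.card Y)) := by
    calc a * ((a - 1) * b) = (a - 1) * (a * b) := by ring
      _ ≤ _ := h1
      _ = a * (a * (f * Nat.card Y)) := by ring
  have h3 : (a - 1) * b ≤ a * (f * Nat.card Y) := Nat.le_of_mul_le_mul_left h2 (by omega)
  have h4 : (a - 1) * (2 * (f * Nat.card Y)) ≤ a * (f * Nat.card Y) :=
    (Nat.mul_le_mul_left _ hineq1).trans h3
  have h5 : (2 * (a - 1)) * (f * Nat.card Y) ≤ a * (f * Nat.card Y) := by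
    calc (2 * (a - 1)) * (f * Nat.card Y) = (a - 1) * (2 * (f * Nat.card Y)) := by ring
      _ ≤ _ := h4
  have h6 : 2 * (a - 1) ≤ a := Nat.le_of_mul_le_mul_right h5 (Nat.mul_pos hf0 hY0)
  omega

end Cfsg.Agent.Lib.Rank3.Chain
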