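import Cfsg.Agent.Lib.Rank3.NoChain2
import Cfsg.Agent.Lib.Rank3.Reverse

/-!
# Simple groups with exactly three noncentral class sizes
-/

set_option autoImplicit false
set_option linter.style.haveILetI false
set_option linter.unusedSectionVars false
set_option linter.unusedVariables false

namespace Cfsg.Agent.Lib.Rank3.Forward

open Subgroup Cfsg
open Cfsg.Agent.Lib.ClassGraph.Basic Cfsg.Agent.Lib.ClassGraph.Top
open Cfsg.Agent.Lib.Rank3.Chain Cfsg.Agent.Lib.Rank3.NoChain

universe u

theorem third {A B C a e : ℕ} (hAB : A ≠ B) (hAC : A ≠ C) (hBC : B ≠ C) (ha : a = A ∨ a = B ∨ a = C)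
    (he : e = A ∨ e = B ∨ e = C) (hae : a ≠ e) :
    ∃ b, (b = A ∨ b = B ∨ b = C) ∧ b ≠ a ∧ b ≠ e ∧ ∀ m, (m = A ∨ m = B ∨ m = C) → m = a ∨ m = b ∨ m = e := by
  rcases ha with h | h | h <;> rcases he with h' | h' | h' <;>
    first
    | omega
    | exact ⟨A, by omega, by omega, by omega, by intro m hm; omega⟩
    | exact ⟨B, by omega, by omega, by omega, by intro m hm; omega⟩
    | exact ⟨C, by omega, by omega, by omega, by intro m hm; omega⟩

variable {G : Type u} [Group G] [Finite G]

theorem forward [IsSimpleGroup G] (hnc : ¬ IsMulCommutative G)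
    (h3 : Set.ncard {m : ℕ | ∃ x : G, x ∉ center G ∧ m = (centralizer ({x} : Set G)).index} = 3) :
    ∃ n : ℕ, 2 ≤ n ∧ Nonempty (G ≃* Matrix.ProjectiveSpecialLinearGroup (Fin 2) (GaloisField 2 n)) := by
  classical
  have hZ : center G = ⊥ := by
    rcases IsSimpleGroup.eq_bot_or_eq_top_of_normal (center G) inferInstance with h | h
    · exact h
    · exfalso
      apply hnc
      refine ⟨⟨fun a b => ?_⟩⟩
      have : a ∈ center G := by rw [h]; trivial
      exact ((mem_center_iff.1 this) b).symm
  have hne1 : ∀ g : G, g ≠ 1 → g ∉ center G := by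
    intro g hg
    rw [hZ]
    simpa using hg
  rw [Set.ncard_eq_three] at h3
  obtain ⟨A, B, C, hAB, hAC, hBC, hS⟩ := h3
  have hmem : ∀ g : G, g ≠ 1 → cs g = A ∨ cs g = B ∨ cs g = C := by
    intro g hg
    have : cs g ∈ ({A, B, C} : Set ℕ) := by
      rw [← hS]
      exact ⟨g, hne1 g hg, rfl⟩
    simpa using this
  have hmem' : ∀ m : ℕ, (m = A ∨ m = B ∨ m = C) → ∃ x : G, x ≠ 1 ∧ cs x = m := by
    intro m hm
    have : m ∈ ({A, B, C} : Set ℕ) := by simpa using hm
    rw [← hS] at this
    obtain ⟨x, hx, rfl⟩ := this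
    refine ⟨x, ?_, rfl⟩
    rintro rfl
    exact hx (one_mem _)
  by_cases hchain : ∃ x y : G, x ≠ 1 ∧ y ≠ 1 ∧ centralizer ({y} : Set G) ≤ centralizer ({x} : Set G) ∧
      centralizer ({y} : Set G) ≠ centralizer ({x} : Set G)
  · exfalso
    obtain ⟨x, y, hx, hy, hle, hne⟩ := hchain
    have hdvd : cs x ∣ cs y := cs_dvd_of_le hle
    have hae : cs x ≠ cs y := fun e => hne (eq_of_le_of_index_eq hle e.symm)
    have hlt : cs x < cs y :=
      lt_of_le_of_ne (Nat.le_of_dvd (Nat.pos_of_ne_zero Subgroup.index_ne_zero_of_finite) hdvd) hae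
    obtain ⟨b, hb, hba, hbe, hall⟩ := third hAB hAC hBC (hmem x hx) (hmem y hy) hae
    obtain ⟨w, hw1, hw⟩ := hmem' b hb
    have hcop : (cs x).Coprime b := by
      by_contra hnot
      obtain ⟨p, hp, hpa, hpb⟩ := Nat.Prime.not_coprime_iff_dvd.1 hnot
      haveI : Fact p.Prime := ⟨hp⟩
      have hpG : p ∣ Nat.card G := hpa.trans (Subgroup.index_dvd_card _)
      obtain ⟨S⟩ : Nonempty (Sylow p G) := inferInstance
      obtain ⟨z, hzS, hz1, hSz⟩ := exists_center_sylow S (S.ne_bot_of_dvd_card hpG)
      have h1 : p ∣ cs z := by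
        rcases hall (cs z) (hmem z hz1) with h | h | h
        · rw [h]; exact hpa
        · rw [h]; exact hpb
        · rw [h]; exact hpa.trans hdvd
      exact S.not_dvd_index (h1.trans (Subgroup.index_dvd_of_le hSz))
    have H : Cfsg.Agent.Lib.Rank3.Chain.Hyp G (cs x) b (cs y) :=
      { sz := fun g hg => hall (cs g) (hmem g hg)
        cop := hcop
        dvd := hdvd
        lt := hlt
        exA := ⟨x, hx, rfl⟩
        exB := ⟨w, hw1, hw⟩
        cen := hZ }
    exact chain_false H H
  · push Not at hchain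
    have hNC : NC G :=
      { cen := hZ
        nest := fun x y hx hy hle => hchain x y hx hy hle }
    obtain ⟨y₁, hy₁, e₁⟩ := hmem' A (Or.inl rfl)
    obtain ⟨y₂, hy₂, e₂⟩ := hmem' B (Or.inr (Or.inl rfl))
    obtain ⟨y₃, hy₃, e₃⟩ := hmem' C (Or.inr (Or.inr rfl))
    refine NoChain.main hNC hy₁ hy₂ hy₃ (fun g hg => ?_)
    rw [e₁, e₂, e₃]
    exact hmem g hg

/-- Index of a centraliser under an isomorphism. -/
theorem index_cen_equiv {H : Type*} [Group H] (e : G ≃* H) (x : G) :
    (centralizer ({e x} : Set H)).index = (centralizer ({x} : Set G)).index := by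
  have h1 : centralizer ({e x} : Set H) = (centralizer ({x} : Set G)).map (e : G →* H) := by
    ext h
    constructor
    · intro hh
      refine ⟨e.symm h, ?_, by simp⟩
      rw [SetLike.mem_coe, mem_cen]
      have := mem_cen.1 hh
      apply e.injective
      simp [this]
    · rintro ⟨g, hg, rfl⟩
      rw [SetLike.mem_coe, mem_cen] at hg
      rw [mem_cen]
      have := congrArg e hg
      simpa using this
  rw [h1, Subgroup.index_map_equiv]

/-- **The theorem.** -/
theorem main :
    (IsSimpleGroup G ∧ ¬ IsMulCommutative G ∧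
        Set.ncard {m : ℕ | ∃ x : G, x ∉ Subgroup.center G ∧ m = (Subgroup.centralizer ({x} : Set G)).index} = 3) ↔
      ∃ (m : ℕ) (F : Type) (_ : Field F) (_ : Fintype F), 2 ≤ m ∧ Fintype.card F = 2 ^ m ∧
        Nonempty (G ≃* Matrix.ProjectiveSpecialLinearGroup (Fin 2) F) := by
  classical
  constructor
  · rintro ⟨h1, h2, h3⟩
    obtain ⟨n, hn, he⟩ := forward h2 h3
    haveI : Fact (Nat.Prime 2) := ⟨Nat.prime_two⟩
    letI : Fintype (GaloisField 2 n) := Fintype.ofFinite _
    refine ⟨n, GaloisField 2 n, inferInstance, inferInstance, hn, ?_, he⟩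
    rw [← Nat.card_eq_fintype_card]
    exact GaloisField.card 2 n (by omega)
  · rintro ⟨m, F, _, _, hm, hq, ⟨e⟩⟩
    have hq4 : 4 ≤ Nat.card F := by
      rw [Nat.card_eq_fintype_card, hq]
      calc 4 = 2 ^ 2 := by norm_num
        _ ≤ 2 ^ m := Nat.pow_le_pow_right (by norm_num) hm
    haveI hs : IsSimpleGroup (Matrix.ProjectiveSpecialLinearGroup (Fin 2) F) :=
      Matrix.ProjectiveSpecialLinearGroup.rank_two_simple hq4
    have hsets : {n : ℕ | ∃ x : G, x ∉ Subgroup.center G ∧ n = (Subgroup.centralizer ({x} : Set G)).index} =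
        {n : ℕ | ∃ x : Matrix.ProjectiveSpecialLinearGroup (Fin 2) F,
          x ∉ Subgroup.center (Matrix.ProjectiveSpecialLinearGroup (Fin 2) F) ∧
          n = (Subgroup.centralizer ({x} : Set (Matrix.ProjectiveSpecialLinearGroup (Fin 2) F))).index} := by
      ext n
      constructor
      · rintro ⟨x, hx, rfl⟩
        refine ⟨e x, ?_, (index_cen_equiv e x).symm⟩
        intro hc
        apply hx
        rw [← cs_eq_one_iff] at hc ⊢
        change (centralizer ({e x} : Set _)).index = 1 at hc
        rw [index_cen_equiv] at hc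
        exact hc
      · rintro ⟨y, hy, rfl⟩
        obtain ⟨x, rfl⟩ := e.surjective y
        refine ⟨x, ?_, index_cen_equiv e x⟩
        intro hc
        apply hy
        rw [← cs_eq_one_iff] at hc ⊢
        change (centralizer ({e x} : Set _)).index = 1
        rw [index_cen_equiv]
        exact hc
    have h3 := Cfsg.Agent.Lib.Rank3.Reverse.ncard_sizes hq hm
    rw [← hsets] at h3
    refine ⟨e.isSimpleGroup, ?_, h3⟩
    intro hcomm
    -- a commutative group has no noncentral elements
    have hempty : {n : ℕ | ∃ x : G, x ∉ Subgroup.center G ∧ n = (Subgroup.centralizer ({x} : Set G)).index} = ∅ := by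
      ext n
      simp only [Set.mem_ofPred_eq, Set.mem_empty_iff_false, iff_false]
      rintro ⟨x, hx, -⟩
      apply hx
      rw [mem_center_iff]
      intro g
      exact hcomm.is_comm.comm g x
    rw [hempty] at h3
    simp at h3

end Cfsg.Agent.Lib.Rank3.Forward
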