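import Cfsg.Agent.Lib.Rank3.Chain4

/-!
# Simple groups with three class sizes: pairwise non-nested centralisers, structure
-/

set_option autoImplicit false
set_option linter.style.haveILetI false
set_option linter.unusedSectionVars false
set_option linter.unusedVariables false

namespace Cfsg.Agent.Lib.Rank3.NoChain

open Subgroup Cfsg
open Cfsg.Agent.Lib.ClassGraph.Basic Cfsg.Agent.Lib.ClassGraph.Top
open Cfsg.Agent.Lib.Rank3.Chain
open scoped Pointwise

universe u

variable {G : Type u} [Group G]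

/-- The hypotheses. -/
structure NC (G : Type u) [Group G] : Prop where
  cen : center G = ⊥
  nest : ∀ x y : G, x ≠ 1 → y ≠ 1 → centralizer ({y} : Set G) ≤ centralizer ({x} : Set G) →
    centralizer ({y} : Set G) = centralizer ({x} : Set G)

/-- `C(v) = L` for all `v ∈ L#`. -/
def Tp (L : Subgroup G) : Prop := ∀ v ∈ L, v ≠ 1 → centralizer ({v} : Set G) = L

omit [Group G] in
theorem mem_smul_sylow' {G : Type u} [Group G] {p : ℕ} {g x : G} {Q : Sylow p G} :
    x ∈ ((g • Q : Sylow p G) : Subgroup G) ↔ g⁻¹ * x * g ∈ (Q : Subgroup G) := by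
  rw [Sylow.coe_subgroup_smul, mem_pointwise_smul_iff_inv_smul_mem, MulAut.smul_def]
  simp [mul_assoc]

theorem orderOf_dvd_card_cen' [Finite G] (g : G) :
    orderOf g ∣ Nat.card (centralizer ({g} : Set G)) := by
  have h1 : orderOf (⟨g, mem_cen.2 rfl⟩ : centralizer ({g} : Set G)) = orderOf g :=
    Subgroup.orderOf_mk _ _
  rw [← h1]
  exact orderOf_dvd_natCard _

variable [Finite G] (h : NC G)

include h

theorem cen_pow_eq {x : G} (k : ℕ) (hz : x ^ k ≠ 1) :
    centralizer ({x ^ k} : Set G) = centralizer ({x} : Set G) := by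
  have hx : x ≠ 1 := by
    rintro rfl
    simp at hz
  exact (h.nest (x ^ k) x hz hx (cen_le_of_zpow ⟨k, by simp⟩)).symm

theorem cen_comm {x y : G} (hx : x ≠ 1) (hy : y ≠ 1) (hc : x * y = y * x)
    (hco : (orderOf x).Coprime (orderOf y)) :
    centralizer ({x} : Set G) = centralizer ({y} : Set G) := by
  have hcomm : Commute x y := hc
  have hst := cen_mul_eq hcomm hco
  have hxy : x * y ≠ 1 := by
    intro h1
    have h2 : x = y⁻¹ := eq_inv_of_mul_eq_one_left h1
    have h3 : orderOf x = orderOf y := by rw [h2, orderOf_inv]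
    rw [h3, Nat.coprime_self] at hco
    exact hy (orderOf_eq_one_iff.1 hco)
  have e1 := h.nest x (x * y) hx hxy (hst ▸ inf_le_left)
  have e2 := h.nest y (x * y) hy hxy (hst ▸ inf_le_right)
  rw [← e1, e2]

omit h in
theorem pow_ne_one_of_order {x : G} {k r : ℕ} (hr : r.Prime) (ho : orderOf (x ^ k) = r) : x ^ k ≠ 1 := by
  intro h1
  rw [h1, orderOf_one] at ho
  exact hr.one_lt.ne ho

omit h in
theorem ne_one_of_order {x : G} {r : ℕ} (hr : r.Prime) (ho : orderOf x = r) : x ≠ 1 := by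
  intro h1
  rw [h1, orderOf_one] at ho
  exact hr.one_lt.ne ho

theorem tp_or_pgroup {x : G} (hx : x ≠ 1) :
    Tp (centralizer ({x} : Set G)) ∨ ∃ r : ℕ, r.Prime ∧ IsPGroup r (centralizer ({x} : Set G)) := by
  classical
  obtain ⟨r, k, hr, hrk⟩ := exists_prime_order_pow hx
  haveI : Fact r.Prime := ⟨hr⟩
  set x₁ := x ^ k with hx₁
  have hx₁1 : x₁ ≠ 1 := pow_ne_one_of_order hr hrk
  have hx₁C : centralizer ({x₁} : Set G) = centralizer ({x} : Set G) := cen_pow_eq h k hx₁1
  set L := centralizer ({x} : Set G) with hL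
  by_cases hs : ∃ s ∈ L, ∃ q : ℕ, q.Prime ∧ orderOf s = q ∧ q ≠ r
  · left
    obtain ⟨s, hsL, q, hq, hso, hqr⟩ := hs
    have hs1 : s ≠ 1 := ne_one_of_order hq hso
    have hsL' : s ∈ centralizer ({x₁} : Set G) := hx₁C ▸ hsL
    have hCs : centralizer ({s} : Set G) = L := by
      rw [cen_comm h hs1 hx₁1 (mem_cen.1 hsL') (by rw [hso, hrk]; exact (Nat.coprime_primes hq hr).2 hqr),
        hx₁C]
    intro v hv hv1
    obtain ⟨ℓ, m, hℓ, hℓm⟩ := exists_prime_order_pow hv1
    have hv₁1 := pow_ne_one_of_order hℓ hℓm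
    rw [← cen_pow_eq h m hv₁1]
    have hv₁L : v ^ m ∈ L := L.pow_mem hv m
    by_cases hℓr : ℓ = r
    · have h1 : v ^ m ∈ centralizer ({s} : Set G) := hCs.symm ▸ hv₁L
      rw [cen_comm h hv₁1 hs1 (mem_cen.1 h1)
        (by rw [hℓm, hso, hℓr]; exact (Nat.coprime_primes hr hq).2 (Ne.symm hqr)), hCs]
    · have h1 : v ^ m ∈ centralizer ({x₁} : Set G) := hx₁C ▸ hv₁L
      rw [cen_comm h hv₁1 hx₁1 (mem_cen.1 h1)
        (by rw [hℓm, hrk]; exact (Nat.coprime_primes hℓ hr).2 hℓr), hx₁C]
  · right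
    push Not at hs
    refine ⟨r, hr, ?_⟩
    rw [IsPGroup.iff_card]
    refine ⟨_, Nat.eq_prime_pow_of_unique_prime_dvd Nat.card_pos.ne' ?_⟩
    intro d hd hdL
    haveI : Fact d.Prime := ⟨hd⟩
    obtain ⟨s, hso⟩ := exists_prime_orderOf_dvd_card' (G := L) d hdL
    exact hs (s : G) s.2 d hd (by rw [← hso]; exact (Subgroup.orderOf_coe s))

omit h in
/-- A non-identity central element of a Sylow subgroup. -/
theorem exists_center_sylow {r : ℕ} [Fact r.Prime] (S : Sylow r G) (hS : (S : Subgroup G) ≠ ⊥) :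
    ∃ z ∈ (S : Subgroup G), z ≠ 1 ∧ (S : Subgroup G) ≤ centralizer ({z} : Set G) := by
  haveI hSnt : Nontrivial (S : Subgroup G) := (Subgroup.nontrivial_iff_ne_bot _).2 hS
  obtain ⟨z', hz'1⟩ : ∃ z' : center (S : Subgroup G), z' ≠ 1 := by
    haveI := S.isPGroup'.center_nontrivial
    exact exists_ne 1
  refine ⟨((z' : (S : Subgroup G)) : G), (z' : (S : Subgroup G)).2, ?_, ?_⟩
  · intro h1
    apply hz'1
    apply Subtype.ext
    apply Subtype.ext
    exact h1
  · intro g hg
    rw [mem_cen]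
    have := (mem_center_iff.1 z'.2) ⟨g, hg⟩
    exact (congrArg Subtype.val this)

/-- Either `C(x)` is self-centralising in the strong sense, or it is a Sylow subgroup. -/
theorem tp_or_sylow {x : G} (hx : x ≠ 1) :
    Tp (centralizer ({x} : Set G)) ∨ ∃ (r : ℕ) (_ : Fact r.Prime) (S : Sylow r G),
      (S : Subgroup G) = centralizer ({x} : Set G) := by
  classical
  rcases tp_or_pgroup h hx with h1 | ⟨r, hr, hp⟩
  · exact Or.inl h1
  · right
    haveI : Fact r.Prime := ⟨hr⟩
    obtain ⟨S, hS⟩ := hp.exists_le_sylow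
    have hxL : x ∈ centralizer ({x} : Set G) := mem_cen.2 rfl
    have hne : (S : Subgroup G) ≠ ⊥ := by
      intro h2
      have := hS hxL
      rw [h2] at this
      exact hx (by simpa using this)
    obtain ⟨z, hzS, hz1, hSz⟩ := exists_center_sylow S hne
    have h3 : centralizer ({x} : Set G) ≤ centralizer ({z} : Set G) := hS.trans hSz
    have h4 := h.nest z x hz1 hx h3
    refine ⟨r, inferInstance, S, le_antisymm ?_ hS⟩
    rw [h4]
    exact hSz

theorem exists_sylow_le {x : G} (hx : x ≠ 1) {r : ℕ} [Fact r.Prime]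
    (hr : r ∣ Nat.card (centralizer ({x} : Set G))) :
    ∃ S : Sylow r G, (S : Subgroup G) ≤ centralizer ({x} : Set G) := by
  classical
  have hrp : r.Prime := Fact.out
  rcases tp_or_sylow h hx with h1 | ⟨r', hr', S', hS'⟩
  · obtain ⟨t', ht'⟩ := exists_prime_orderOf_dvd_card' (G := centralizer ({x} : Set G)) r hr
    have hto : orderOf ((t' : centralizer ({x} : Set G)) : G) = r := by
      rw [← ht']
      exact (Subgroup.orderOf_coe t')
    have ht1 := ne_one_of_order hrp hto
    have hQ : IsPGroup r (zpowers ((t' : centralizer ({x} : Set G)) : G)) := by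
      rw [IsPGroup.iff_card]
      exact ⟨1, by rw [Nat.card_zpowers, hto, pow_one]⟩
    obtain ⟨S, hS⟩ := hQ.exists_le_sylow
    have htS := hS (mem_zpowers _)
    refine ⟨S, ?_⟩
    have hne : (S : Subgroup G) ≠ ⊥ := by
      intro h2
      rw [h2] at htS
      exact ht1 (by simpa using htS)
    obtain ⟨z, hzS, hz1, hSz⟩ := exists_center_sylow S hne
    have hzL : z ∈ centralizer ({x} : Set G) := by
      rw [← h1 _ t'.2 ht1, mem_cen]
      exact (mem_cen.1 (hSz htS)).symm
    rw [← h1 z hzL hz1]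
    exact hSz
  · have hrr : r = r' := by
      rw [← hS'] at hr
      obtain ⟨n, hn⟩ := IsPGroup.iff_card.1 S'.isPGroup'
      rw [hn] at hr
      exact (Nat.prime_dvd_prime_iff_eq hrp hr'.out).1 (hrp.dvd_of_dvd_pow hr)
    subst hrr
    refine ⟨S', ?_⟩
    rw [hS']

/-- All elements in a Sylow subgroup with central elements: the key property. -/
theorem cen_eq_of_sylow_le {x : G} (hx : x ≠ 1) {r : ℕ} [Fact r.Prime] {S : Sylow r G}
    (hS : (S : Subgroup G) ≤ centralizer ({x} : Set G)) {z : G} (hzS : z ∈ (S : Subgroup G))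
    (hz1 : z ≠ 1) (hSz : (S : Subgroup G) ≤ centralizer ({z} : Set G)) :
    centralizer ({z} : Set G) = centralizer ({x} : Set G) := by
  classical
  have hrp : r.Prime := Fact.out
  rcases tp_or_sylow h hx with h1 | ⟨r', hr', S', hS'⟩
  · exact h1 z (hS hzS) hz1
  · have hzS' : z ∈ (S' : Subgroup G) := hS' ▸ (hS hzS)
    -- `r = r'`
    have hrr : r = r' := by
      obtain ⟨n, hn⟩ := IsPGroup.iff_card.1 S'.isPGroup'
      have h2 : orderOf z ∣ Nat.card (S' : Subgroup G) := by
        have : orderOf (⟨z, hzS'⟩ : (S' : Subgroup G)) = orderOf z := Subgroup.orderOf_mk _ _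
        rw [← this]
        exact orderOf_dvd_natCard _
      obtain ⟨m, hm⟩ := IsPGroup.iff_card.1 S.isPGroup'
      have h3 : orderOf z ∣ Nat.card (S : Subgroup G) := by
        have : orderOf (⟨z, hzS⟩ : (S : Subgroup G)) = orderOf z := Subgroup.orderOf_mk _ _
        rw [← this]
        exact orderOf_dvd_natCard _
      have h4 : orderOf z ≠ 1 := by rwa [Ne, orderOf_eq_one_iff]
      obtain ⟨q, hq, hqz⟩ := Nat.exists_prime_and_dvd h4
      have h5 : q ∣ r' ^ n := hn ▸ hqz.trans h2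
      have h6 : q ∣ r ^ m := hm ▸ hqz.trans h3
      have h7 := (Nat.prime_dvd_prime_iff_eq hq hr'.out).1 (hq.dvd_of_dvd_pow h5)
      have h8 := (Nat.prime_dvd_prime_iff_eq hq hrp).1 (hq.dvd_of_dvd_pow h6)
      rw [← h7, ← h8]
    subst hrr
    have hSS : S = S' := by
      apply Sylow.ext
      apply Subgroup.eq_of_le_of_card_ge (hS'.symm ▸ hS)
      rw [S.card_eq_multiplicity, S'.card_eq_multiplicity]
    have h9 : centralizer ({x} : Set G) ≤ centralizer ({z} : Set G) := by
      rw [← hS', ← hSS]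
      exact hSz
    exact (h.nest z x hz1 hx h9).symm

/-- Two centralisers of the same order are conjugate. -/
theorem exists_conj_cen_eq {x y : G} (hx : x ≠ 1) (hy : y ≠ 1) (hcs : cs x = cs y) :
    ∃ g : G, centralizer ({g * y * g⁻¹} : Set G) = centralizer ({x} : Set G) := by
  classical
  have hcard : Nat.card (centralizer ({x} : Set G)) = Nat.card (centralizer ({y} : Set G)) := by
    have h1 := Subgroup.index_mul_card (centralizer ({x} : Set G))
    have h2 := Subgroup.index_mul_card (centralizer ({y} : Set G))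
    have hpos : 0 < cs x := Nat.pos_of_ne_zero Subgroup.index_ne_zero_of_finite
    apply Nat.eq_of_mul_eq_mul_left hpos
    change cs x * _ = _ at h1
    change cs y * _ = _ at h2
    rw [h1, hcs, h2]
  have hx1 : 1 < Nat.card (centralizer ({x} : Set G)) := by
    have : Nontrivial (centralizer ({x} : Set G)) := by
      refine ⟨⟨⟨x, mem_cen.2 rfl⟩, 1, fun h => hx (congrArg Subtype.val h)⟩⟩
    exact Finite.one_lt_card
  obtain ⟨r, hr, hrd⟩ := Nat.exists_prime_and_dvd hx1.ne'
  haveI : Fact r.Prime := ⟨hr⟩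
  obtain ⟨S, hS⟩ := exists_sylow_le h hx hrd
  obtain ⟨S', hS'⟩ := exists_sylow_le h hy (hcard ▸ hrd)
  obtain ⟨g, hg⟩ := MulAction.exists_smul_eq G S' S
  have hrG : r ∣ Nat.card G := hrd.trans (Subgroup.card_subgroup_dvd_card _)
  have hne : (S : Subgroup G) ≠ ⊥ := S.ne_bot_of_dvd_card hrG
  obtain ⟨z, hzS, hz1, hSz⟩ := exists_center_sylow S hne
  have hy' : g * y * g⁻¹ ≠ 1 := by
    intro h1
    apply hy
    have : y = g⁻¹ * (g * y * g⁻¹) * g := by group
    rw [this, h1]
    group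
  have hSy : (S : Subgroup G) ≤ centralizer ({g * y * g⁻¹} : Set G) := by
    intro s hs
    rw [← hg, mem_smul_sylow'] at hs
    have h1 := mem_cen.1 (hS' hs)
    rw [mem_cen]
    calc s * (g * y * g⁻¹) = g * ((g⁻¹ * s * g) * y) * g⁻¹ := by group
      _ = g * (y * (g⁻¹ * s * g)) * g⁻¹ := by rw [h1]
      _ = g * y * g⁻¹ * s := by group
  refine ⟨g, ?_⟩
  rw [← cen_eq_of_sylow_le h hy' hSy hzS hz1 hSz, cen_eq_of_sylow_le h hx hS hzS hz1 hSz]

end Cfsg.Agent.Lib.Rank3.NoChain
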