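import Cfsg.Agent.Lib.Rank3.NoChain1
import Cfsg.Agent.Lib.TICent.Main
import Cfsg.Agent.S4355

/-!
# Simple groups with three class sizes: pairwise non-nested centralisers, the count
-/

set_option autoImplicit false
set_option linter.style.haveILetI false
set_option linter.unusedSectionVars false
set_option linter.unusedVariables false

namespace Cfsg.Agent.Lib.Rank3.NoChain

open Subgroup Cfsg
open Cfsg.Agent.Lib.ClassGraph.Basic Cfsg.Agent.Lib.ClassGraph.Top
open Cfsg.Agent.Lib.Rank3.Chain
open scoped Pointwise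

universe u

/-- A nonabelian `r`-group with `r ≥ 3` has a centre of index at least nine. -/
theorem nine_mul_center_le {K : Type*} [Group K] [Finite K] {r : ℕ} (hr : r.Prime) (hr3 : 3 ≤ r)
    (hK : IsPGroup r K) (hnc : ¬ IsMulCommutative K) : 9 * Nat.card (center K) ≤ Nat.card K := by
  classical
  haveI : Fact r.Prime := ⟨hr⟩
  have h0 := Subgroup.index_mul_card (center K)
  obtain ⟨n, hn⟩ := IsPGroup.iff_card.1 hK
  have hd : (center K).index ∣ r ^ n := ⟨_, (hn ▸ h0).symm⟩
  obtain ⟨j, -, hj⟩ := (Nat.dvd_prime_pow hr).1 hd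
  have hj0 : j ≠ 0 := by
    rintro rfl
    rw [pow_zero, Subgroup.index_eq_one] at hj
    apply hnc
    refine ⟨⟨fun a b => ?_⟩⟩
    have : a ∈ center K := by rw [hj]; trivial
    exact (mem_center_iff.1 this) b |>.symm
  have hj1 : j ≠ 1 := by
    rintro rfl
    rw [pow_one] at hj
    have hc : Nat.card (K ⧸ center K) = r := hj
    haveI : Fact (Nat.card (K ⧸ center K)).Prime := ⟨by rw [hc]; exact hr⟩
    haveI : IsCyclic (K ⧸ center K) := isCyclic_of_prime_card rfl
    exact hnc (isMulCommutative_of_isCyclic_quotient_center_self K)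
  have hj2 : 2 ≤ j := by omega
  have h9 : 9 ≤ (center K).index := by
    rw [hj]
    calc 9 = 3 ^ 2 := by norm_num
      _ ≤ r ^ 2 := Nat.pow_le_pow_left hr3 2
      _ ≤ r ^ j := Nat.pow_le_pow_right hr.pos hj2
  rw [← h0]
  exact Nat.mul_le_mul_right _ h9

variable {G : Type u} [Group G] [Finite G] (h : NC G)

open _root_.Classical in
/-- Elements with a given centraliser. -/
noncomputable def Zs [Fintype G] (y : G) : Finset G :=
  Finset.univ.filter (fun z => z ≠ 1 ∧ centralizer ({z} : Set G) = centralizer ({y} : Set G))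

open _root_.Classical in
/-- Elements with a given class size. -/
noncomputable def Ps [Fintype G] (y : G) : Finset G :=
  Finset.univ.filter (fun g => g ≠ 1 ∧ cs g = cs y)

omit [Finite G] in
theorem mem_Zs [Fintype G] {y z : G} :
    z ∈ Zs y ↔ z ≠ 1 ∧ centralizer ({z} : Set G) = centralizer ({y} : Set G) := by
  simp [Zs]

omit [Finite G] in
theorem mem_Ps [Fintype G] {y z : G} : z ∈ Ps y ↔ z ≠ 1 ∧ cs z = cs y := by
  simp [Ps]

omit [Finite G] in
theorem cs_eq_of_cen_eq {z y : G} (e : centralizer ({z} : Set G) = centralizer ({y} : Set G)) :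
    cs z = cs y := by
  change (centralizer ({z} : Set G)).index = (centralizer ({y} : Set G)).index
  rw [e]

theorem cen_conj_of_norm {y z n : G} (hz : centralizer ({z} : Set G) = centralizer ({y} : Set G))
    (hn : n ∈ normalizer ((centralizer ({y} : Set G) : Subgroup G) : Set G)) :
    centralizer ({n⁻¹ * z * n} : Set G) = centralizer ({y} : Set G) := by
  ext g
  have h1 : g ∈ centralizer ({y} : Set G) ↔ n * g * n⁻¹ ∈ centralizer ({y} : Set G) :=
    mem_normalizer_iff.1 hn g
  rw [h1, ← hz, mem_cen, mem_cen]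
  constructor
  · intro e
    calc n * g * n⁻¹ * z = n * (g * (n⁻¹ * z * n)) * n⁻¹ := by group
      _ = n * ((n⁻¹ * z * n) * g) * n⁻¹ := by rw [e]
      _ = z * (n * g * n⁻¹) := by group
  · intro e
    have : n * (g * (n⁻¹ * z * n)) * n⁻¹ = n * ((n⁻¹ * z * n) * g) * n⁻¹ := by
      calc n * (g * (n⁻¹ * z * n)) * n⁻¹ = n * g * n⁻¹ * z := by group
        _ = z * (n * g * n⁻¹) := e
        _ = n * ((n⁻¹ * z * n) * g) * n⁻¹ := by group
    exact mul_left_cancel (mul_right_cancel this)

include h

/-- The basic count. -/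
theorem count_Ps [Fintype G] {y : G} (hy : y ≠ 1) :
    Nat.card (normalizer ((centralizer ({y} : Set G) : Subgroup G) : Set G)) * (Ps y).card ≤
      Nat.card G * (Zs y).card := by
  classical
  set N : Subgroup G := normalizer ((centralizer ({y} : Set G) : Subgroup G) : Set G) with hN
  let s : Finset (G × G) := Finset.univ ×ˢ Zs y
  let φ : G × G → G := fun p => p.1 * p.2 * p.1⁻¹
  have hs : s.card = Nat.card G * (Zs y).card := by
    rw [Finset.card_product, Finset.card_univ, Nat.card_eq_fintype_card (α := G)]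
  rw [← hs]
  refine Finset.mul_card_image_le_card_of_maps_to (f := φ) ?_ _ ?_
  · intro p hp
    have hp2 := mem_Zs.1 (Finset.mem_product.1 hp).2
    rw [mem_Ps]
    constructor
    · intro h1
      apply hp2.1
      have : p.2 = p.1⁻¹ * (p.1 * p.2 * p.1⁻¹) * p.1 := by group
      rw [this]
      simp only [φ] at h1
      rw [h1]
      group
    · simp only [φ]
      rw [cs_conj]
      exact cs_eq_of_cen_eq hp2.2
  · intro b hb
    have hb' := mem_Ps.1 hb
    obtain ⟨g₀, hg₀⟩ := exists_conj_cen_eq h hy hb'.1 hb'.2.symm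
    set z₀ := g₀ * b * g₀⁻¹ with hz₀
    have hz₀1 : z₀ ≠ 1 := by
      intro h1
      apply hb'.1
      have : b = g₀⁻¹ * z₀ * g₀ := by rw [hz₀]; group
      rw [this, h1]
      group
    rw [Nat.card_eq_fintype_card, Fintype.card_subtype]
    refine Finset.card_le_card_of_injOn (fun n => (g₀⁻¹ * n, n⁻¹ * z₀ * n)) ?_ ?_
    · intro n hn
      have hn' : n ∈ N := by simpa using hn
      refine Finset.mem_filter.2 ⟨Finset.mem_product.2 ⟨Finset.mem_univ _, mem_Zs.2 ⟨?_, ?_⟩⟩, ?_⟩
      · intro h1
        apply hz₀1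
        have h1' : n⁻¹ * z₀ * n = 1 := h1
        have : z₀ = n * (n⁻¹ * z₀ * n) * n⁻¹ := by group
        rw [this, h1']
        group
      · exact cen_conj_of_norm hg₀ hn'
      · simp only [φ, hz₀]
        group
    · intro n _ n' _ e
      have := congrArg Prod.fst e
      exact mul_left_cancel this

/-- From the count to a bound. -/
theorem bound_Ps [Fintype G] {y : G} (hy : y ≠ 1) {c : ℕ}
    (hc : c * (Zs y).card < Nat.card (normalizer ((centralizer ({y} : Set G) : Subgroup G) : Set G))) :
    c * (Ps y).card < Nat.card G := by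
  have h1 := count_Ps h hy
  have hZ : 0 < (Zs y).card := Finset.card_pos.2 ⟨y, mem_Zs.2 ⟨hy, rfl⟩⟩
  have hP : 0 < (Ps y).card := Finset.card_pos.2 ⟨y, mem_Ps.2 ⟨hy, rfl⟩⟩
  have h2 : (c * (Zs y).card) * (Ps y).card <
      Nat.card (normalizer ((centralizer ({y} : Set G) : Subgroup G) : Set G)) * (Ps y).card :=
    Nat.mul_lt_mul_of_pos_right hc hP
  have h3 : (c * (Ps y).card) * (Zs y).card < Nat.card G * (Zs y).card := by
    calc (c * (Ps y).card) * (Zs y).card = (c * (Zs y).card) * (Ps y).card := by ring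
      _ < _ := h2
      _ ≤ _ := h1
  exact Nat.lt_of_mul_lt_mul_right h3

omit h in
theorem card_le_norm (L : Subgroup G) : Nat.card L ≤ Nat.card (normalizer (L : Set G)) :=
  Subgroup.card_le_of_le Subgroup.le_normalizer

/-- Elements with centraliser `L` live in the centre of `L`. -/
theorem Zs_card_lt_center [Fintype G] (y : G) :
    (Zs y).card + 1 ≤ Nat.card (center (centralizer ({y} : Set G))) := by
  classical
  set L : Subgroup G := centralizer ({y} : Set G) with hL
  set ZL : Subgroup G := (center L).map L.subtype with hZL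
  have hc : Nat.card (center L) = Nat.card ZL := by
    rw [hZL, Subgroup.card_map_of_injective L.subtype_injective]
  rw [hc, Nat.card_eq_fintype_card, Fintype.card_subtype]
  have hsub : insert 1 (Zs y) ⊆ Finset.univ.filter (fun z => z ∈ ZL) := by
    intro z hz
    rw [Finset.mem_filter]
    refine ⟨Finset.mem_univ _, ?_⟩
    rcases Finset.mem_insert.1 hz with rfl | hz
    · exact ZL.one_mem
    · have hz' := mem_Zs.1 hz
      have hzL : z ∈ L := by
        rw [hL, ← hz'.2]
        exact mem_cen.2 rfl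
      refine ⟨⟨z, hzL⟩, ?_, rfl⟩
      rw [SetLike.mem_coe, mem_center_iff]
      rintro ⟨l, hl⟩
      apply Subtype.ext
      have : l ∈ centralizer ({z} : Set G) := by rw [hz'.2]; exact hl
      exact mem_cen.1 this
  have h1 := Finset.card_le_card hsub
  rwa [Finset.card_insert_of_notMem (by simp [mem_Zs])] at h1

/-- Structure of a nonabelian centraliser. -/
theorem nonab_struct [Fintype G] {x : G} (hx : x ≠ 1)
    (hnc : ¬ IsMulCommutative (centralizer ({x} : Set G))) :
    9 * (Zs x).card < Nat.card (normalizer ((centralizer ({x} : Set G) : Subgroup G) : Set G)) ∧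
      18 ≤ Nat.card G ∧ ¬ 2 ∣ Nat.card (centralizer ({x} : Set G)) := by
  classical
  rcases tp_or_sylow h hx with h1 | ⟨r, hr, S, hS⟩
  · exfalso
    apply hnc
    refine ⟨⟨fun a b => ?_⟩⟩
    by_cases ha : (a : G) = 1
    · have : a = 1 := Subtype.ext ha
      simp [this]
    · have hb : (b : G) ∈ centralizer ({(a : G)} : Set G) := by rw [h1 _ a.2 ha]; exact b.2
      apply Subtype.ext
      exact (mem_cen.1 hb).symm
  · have hrp := hr.out
    have hr2 : r ≠ 2 := by
      rintro rfl
      have hall : ∀ t : G, (∃ k : ℕ, orderOf t = 2 ^ k) →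
          ¬ 2 ∣ (centralizer ({t} : Set G)).index := by
        rintro t ⟨k, hk⟩ hd
        by_cases ht : t = 1
        · subst ht
          have : (centralizer ({(1 : G)} : Set G)).index = 1 := cs_eq_one_iff.2 (one_mem _)
          rw [this] at hd
          omega
        · have hk0 : k ≠ 0 := by
            rintro rfl
            rw [pow_zero, orderOf_eq_one_iff] at hk
            exact ht hk
          have h2t : 2 ∣ orderOf t := by
            rw [hk]
            exact dvd_pow_self 2 hk0
          have h2c : 2 ∣ Nat.card (centralizer ({t} : Set G)) :=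
            h2t.trans (orderOf_dvd_card_cen' t)
          obtain ⟨S', hS'⟩ := exists_sylow_le h ht h2c
          exact S'.not_dvd_index (hd.trans (Subgroup.index_dvd_of_le hS'))
      have hcomm := Cfsg.Agent.S4355.result hall S
      apply hnc
      rw [← hS]
      exact hcomm
    have hr3 : 3 ≤ r := by
      have := hrp.two_le
      omega
    have hp : IsPGroup r (centralizer ({x} : Set G)) := by
      rw [← hS]
      exact S.isPGroup'
    have h9 := nine_mul_center_le hrp hr3 hp hnc
    have hZ := Zs_card_lt_center h x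
    have hZ1 : 0 < (Zs x).card := Finset.card_pos.2 ⟨x, mem_Zs.2 ⟨hx, rfl⟩⟩
    have hN := card_le_norm (centralizer ({x} : Set G))
    have hL := Subgroup.card_le_card_group (centralizer ({x} : Set G))
    refine ⟨by omega, by omega, ?_⟩
    intro hd
    obtain ⟨n, hn⟩ := IsPGroup.iff_card.1 hp
    rw [hn] at hd
    have := (Nat.prime_dvd_prime_iff_eq Nat.prime_two hrp).1 (Nat.prime_two.dvd_of_dvd_pow hd)
    omega

/-- Structure of a self-centralising centraliser. -/
theorem tp_struct [Fintype G] [IsSimpleGroup G] {x : G} (hx : x ≠ 1) (hT : Tp (centralizer ({x} : Set G))) :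
    2 * (Zs x).card < Nat.card (normalizer ((centralizer ({x} : Set G) : Subgroup G) : Set G)) ∧
    (3 * (Zs x).card < Nat.card (normalizer ((centralizer ({x} : Set G) : Subgroup G) : Set G)) ∨
      (2 ∣ Nat.card (normalizer ((centralizer ({x} : Set G) : Subgroup G) : Set G)) ∧
       ¬ 2 ∣ Nat.card (centralizer ({x} : Set G)))) := by
  classical
  set L : Subgroup G := centralizer ({x} : Set G) with hL
  set N : Subgroup G := normalizer (L : Set G) with hN
  have hne : L ≠ ⊥ := by
    intro h1
    have : x ∈ L := mem_cen.2 rfl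
    rw [h1] at this
    exact hx (by simpa using this)
  obtain ⟨g, hgN, hgL⟩ := exists_normalizer_not_mem h.cen hne hT
  have hZ : (Zs x).card + 1 ≤ Nat.card (center L) := Zs_card_lt_center h x
  have hZL : Nat.card (center L) ≤ Nat.card L := by
    have := Subgroup.card_le_card_group (center L)
    exact this
  have hLN : L ≤ N := Subgroup.le_normalizer
  obtain ⟨t, ht⟩ := Subgroup.card_dvd_of_le hLN
  have hL0 : 0 < Nat.card L := Nat.card_pos
  have hN0 : 0 < Nat.card N := Nat.card_pos
  have ht0 : t ≠ 0 := by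
    rintro rfl
    omega
  have ht1 : t ≠ 1 := by
    rintro rfl
    rw [mul_one] at ht
    have : L = N := Subgroup.eq_of_le_of_card_ge hLN (by omega)
    exact hgL (this ▸ hgN)
  have hZ' : (Zs x).card < Nat.card L := by omega
  have ht2 : 2 ≤ t := by omega
  have hmul : 2 * Nat.card L ≤ Nat.card N := by
    rw [ht, mul_comm]
    exact Nat.mul_le_mul_left _ ht2
  refine ⟨by omega, ?_⟩
  by_cases ht3 : 3 ≤ t
  · left
    have : 3 * Nat.card L ≤ Nat.card N := by
      rw [ht, mul_comm]
      exact Nat.mul_le_mul_left _ ht3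
    omega
  · right
    have ht2' : t = 2 := by omega
    subst ht2'
    refine ⟨⟨_, by rw [ht, mul_comm]⟩, ?_⟩
    intro hd
    haveI : Fact (Nat.Prime 2) := ⟨Nat.prime_two⟩
    obtain ⟨S, hS⟩ := exists_sylow_le h hx hd
    have h1 : ¬ 2 ∣ L.index := fun h2 => S.not_dvd_index (h2.trans (Subgroup.index_dvd_of_le hS))
    apply h1
    have h2 := Subgroup.index_mul_card L
    have h3 := Subgroup.index_mul_card N
    rw [ht] at h3
    have h4 : L.index * Nat.card L = (N.index * 2) * Nat.card L := by
      rw [h2, ← h3]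
      ring
    have h5 := Nat.eq_of_mul_eq_mul_right hL0 h4
    exact ⟨N.index, by rw [h5]; ring⟩

/-- The contradiction. -/
theorem nonab_false [IsSimpleGroup G] {x y₂ y₃ : G} (hx : x ≠ 1) (hy₂ : y₂ ≠ 1) (hy₃ : y₃ ≠ 1)
    (hsz : ∀ g : G, g ≠ 1 → cs g = cs x ∨ cs g = cs y₂ ∨ cs g = cs y₃)
    (hnc : ¬ IsMulCommutative (centralizer ({x} : Set G))) : False := by
  classical
  letI := Fintype.ofFinite G
  obtain ⟨h1, h18, hodd⟩ := nonab_struct h hx hnc
  have hP1 := bound_Ps h hx h1
  -- the cover
  have hcover : Nat.card G - 1 ≤ (Ps x).card + ((Ps y₂).card + (Ps y₃).card) := by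
    have hsub : (Finset.univ : Finset G).erase 1 ⊆ Ps x ∪ (Ps y₂ ∪ Ps y₃) := by
      intro g hg
      have hg1 : g ≠ 1 := (Finset.mem_erase.1 hg).1
      rw [Finset.mem_union, Finset.mem_union, mem_Ps, mem_Ps, mem_Ps]
      rcases hsz g hg1 with h2 | h2 | h2
      · exact Or.inl ⟨hg1, h2⟩
      · exact Or.inr (Or.inl ⟨hg1, h2⟩)
      · exact Or.inr (Or.inr ⟨hg1, h2⟩)
    have h2 := Finset.card_le_card hsub
    rw [Finset.card_erase_of_mem (Finset.mem_univ _), Finset.card_univ, ← Nat.card_eq_fintype_card] at h2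
    have h3 := Finset.card_union_le (Ps x) (Ps y₂ ∪ Ps y₃)
    have h4 := Finset.card_union_le (Ps y₂) (Ps y₃)
    omega
  -- a statement for each of the two others
  have key : ∀ y : G, y ≠ 1 → 2 * (Ps y).card < Nat.card G ∧
      (3 * (Ps y).card < Nat.card G ∨
        (2 ∣ Nat.card (normalizer ((centralizer ({y} : Set G) : Subgroup G) : Set G)) ∧
          ¬ 2 ∣ Nat.card (centralizer ({y} : Set G)))) := by
    intro y hy
    by_cases hc : IsMulCommutative (centralizer ({y} : Set G))
    · have hT : Tp (centralizer ({y} : Set G)) := by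
        intro v hv hv1
        refine (h.nest v y hv1 hy ?_).symm
        intro g hg
        rw [mem_cen]
        have := hc.is_comm.comm ⟨g, hg⟩ ⟨v, hv⟩
        exact congrArg Subtype.val this
      obtain ⟨h2, h3⟩ := tp_struct h hy hT
      refine ⟨bound_Ps h hy h2, ?_⟩
      rcases h3 with h3 | h3
      · exact Or.inl (bound_Ps h hy h3)
      · exact Or.inr h3
    · obtain ⟨h2, -, -⟩ := nonab_struct h hy hc
      have hZ1 : 0 < (Zs y).card := Finset.card_pos.2 ⟨y, mem_Zs.2 ⟨hy, rfl⟩⟩
      have h3 : 3 * (Ps y).card < Nat.card G := bound_Ps h hy (c := 3) (by omega)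
      exact ⟨by omega, Or.inl h3⟩
  obtain ⟨h2a, h2b⟩ := key y₂ hy₂
  obtain ⟨h3a, h3b⟩ := key y₃ hy₃
  rcases h2b with h2b | h2b
  · omega
  rcases h3b with h3b | h3b
  · omega
  -- both have odd order and even normalisers
  have h2G : 2 ∣ Nat.card G := h2b.1.trans (Subgroup.card_subgroup_dvd_card _)
  haveI : Fact (Nat.Prime 2) := ⟨Nat.prime_two⟩
  obtain ⟨t, ht⟩ := exists_prime_orderOf_dvd_card' (G := G) 2 h2G
  have ht1 : t ≠ 1 := ne_one_of_order Nat.prime_two ht
  have h2t : 2 ∣ Nat.card (centralizer ({t} : Set G)) := by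
    rw [← ht]
    exact orderOf_dvd_card_cen' t
  have hcardeq : ∀ y : G, cs t = cs y →
      Nat.card (centralizer ({t} : Set G)) = Nat.card (centralizer ({y} : Set G)) := by
    intro y hty
    have e1 := Subgroup.index_mul_card (centralizer ({t} : Set G))
    have e2 := Subgroup.index_mul_card (centralizer ({y} : Set G))
    have hpos : 0 < cs t := Nat.pos_of_ne_zero Subgroup.index_ne_zero_of_finite
    apply Nat.eq_of_mul_eq_mul_left hpos
    change cs t * _ = _ at e1
    change cs y * _ = _ at e2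
    rw [e1, hty, e2]
  rcases hsz t ht1 with h5 | h5 | h5
  · exact hodd (hcardeq x h5 ▸ h2t)
  · exact h2b.2 (hcardeq y₂ h5 ▸ h2t)
  · exact h3b.2 (hcardeq y₃ h5 ▸ h2t)

/-- All centralisers are abelian. -/
theorem all_comm [IsSimpleGroup G] {y₁ y₂ y₃ : G} (hy₁ : y₁ ≠ 1) (hy₂ : y₂ ≠ 1) (hy₃ : y₃ ≠ 1)
    (hsz : ∀ g : G, g ≠ 1 → cs g = cs y₁ ∨ cs g = cs y₂ ∨ cs g = cs y₃) {x : G} (hx : x ≠ 1) :
    IsMulCommutative (centralizer ({x} : Set G)) := by
  by_contra hnc
  rcases hsz x hx with h1 | h1 | h1
  · refine nonab_false h hx hy₂ hy₃ (fun g hg => ?_) hnc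
    rw [h1]
    exact hsz g hg
  · refine nonab_false h hx hy₁ hy₃ (fun g hg => ?_) hnc
    rw [h1]
    rcases hsz g hg with h2 | h2 | h2
    · exact Or.inr (Or.inl h2)
    · exact Or.inl h2
    · exact Or.inr (Or.inr h2)
  · refine nonab_false h hx hy₁ hy₂ (fun g hg => ?_) hnc
    rw [h1]
    rcases hsz g hg with h2 | h2 | h2
    · exact Or.inr (Or.inl h2)
    · exact Or.inr (Or.inr h2)
    · exact Or.inl h2

/-- **Main theorem of the non-nested case.** -/
theorem main [IsSimpleGroup G] {y₁ y₂ y₃ : G} (hy₁ : y₁ ≠ 1) (hy₂ : y₂ ≠ 1) (hy₃ : y₃ ≠ 1)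
    (hsz : ∀ g : G, g ≠ 1 → cs g = cs y₁ ∨ cs g = cs y₂ ∨ cs g = cs y₃) :
    ∃ n : ℕ, 2 ≤ n ∧ Nonempty (G ≃* Matrix.ProjectiveSpecialLinearGroup (Fin 2) (GaloisField 2 n)) := by
  classical
  have hTI : ∀ x : G, Cfsg.IsTISubset (centralizer ({x} : Set G) : Set G) := by
    intro x g hg a ha hga
    by_contra ha1
    by_cases hx : x = 1
    · subst hx
      apply hg
      rw [mem_normalizer_iff]
      intro k
      have h1 : ∀ m : G, m ∈ ((centralizer ({(1 : G)} : Set G) : Subgroup G) : Set G) := by
        intro m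
        change m ∈ centralizer ({(1 : G)} : Set G)
        rw [mem_cen]
        simp
      exact ⟨fun _ => h1 _, fun _ => h1 _⟩
    · have hc := all_comm h hy₁ hy₂ hy₃ hsz hx
      have hT : Tp (centralizer ({x} : Set G)) := by
        intro v hv hv1
        refine (h.nest v x hv1 hx ?_).symm
        intro k hk
        rw [mem_cen]
        have := hc.is_comm.comm ⟨k, hk⟩ ⟨v, hv⟩
        exact congrArg Subtype.val this
      exact hg (mem_normalizer_of_conj_mem hT ha ha1 hga)
  have hF : fittingSubgroup G = ⊥ := by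
    rcases IsSimpleGroup.eq_bot_or_eq_top_of_normal (fittingSubgroup G)
      Cfsg.Agent.Lib.Core.Basic.fittingSubgroup_normal' with h1 | h1
    · exact h1
    · exfalso
      haveI : Group.IsNilpotent G := Cfsg.Agent.Lib.Core.Basic.fittingSubgroup_eq_top_iff.1 h1
      exact Group.IsNilpotent.center_ne_bot G h.cen
  exact (Cfsg.Agent.Lib.TICent.Invol.Hyp.of hTI hF).main3

end Cfsg.Agent.Lib.Rank3.NoChain
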